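import Groth.Agent.L16.Hyperplane.SubfieldBasics
import Mathlib.RingTheory.AlgebraicIndependent.TranscendenceBasis

/-!
Two algebraically independent members of a generating family.
-/

set_option autoImplicit false
set_option maxHeartbeats 400000

universe u

namespace Groth.L16.Hyper

theorem isAlgebraic_exchange {M : Type u} [Field M] {K : Subfield M} {x z w : M}
    (hz : Transcendental K z) (h₁ : IsAlgebraic (adj K {x}) z) (h₂ : IsAlgebraic (adj K {x}) w) :
    IsAlgebraic (adj K {z}) w := by
  have hx : IsAlgebraic (adj K {z}) x := by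
    by_contra hx
    exact transcendental_exchange hz hx h₁
  refine isAlgebraic_of_isAlgebraic_adj (S := {x}) (fun y hy => by rwa [Set.mem_singleton_iff.1 hy]) ?_
  exact isAlgebraic_mono (adj_mono (le_adj K {z}) subset_rfl) h₂

theorem exists_transcendental_pair {k L : Type u} [Field k] [Field L] [Algebra k L] {ι : Type} (r : ι → L)
    (h : 2 ≤ Algebra.trdeg k (IntermediateField.adjoin k (Set.range r))) :
    ∃ a b, Transcendental k (r a) ∧ Transcendental (IntermediateField.adjoin k ({r a} : Set L)) (r b) := by
  let F := IntermediateField.adjoin k (Set.range r)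
  obtain ⟨s, hs⟩ := exists_isTranscendenceBasis k F
  have hcard : 2 ≤ Cardinal.mk s := hs.cardinalMk_eq_trdeg.symm ▸ h
  obtain ⟨z, w, hzw⟩ : ∃ z w : s, z ≠ w :=
    nontrivial_iff.1 (Cardinal.one_lt_iff_nontrivial.1 (lt_of_lt_of_le Cardinal.one_lt_two hcard))
  have hind : AlgebraicIndependent k (fun i : s => ((i : F) : L)) :=
    hs.1.map' (f := F.val) Subtype.val_injective
  have hz : Transcendental k ((z : F) : L) := hind.transcendental z
  have hw : Transcendental (IntermediateField.adjoin k ({((z : F) : L)} : Set L)) ((w : F) : L) := by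
    have := hind.transcendental_adjoin (s := {z}) (i := w) (fun e => hzw (Set.mem_singleton_iff.1 e).symm)
    rw [Set.image_singleton] at this
    exact IntermediateField.transcendental_adjoin_iff.2 this
  by_contra hno
  push Not at hno
  let k₀ : Subfield L := (⊥ : IntermediateField k L).toSubfield
  have hadj : ∀ S : Set L, adj k₀ S = (IntermediateField.adjoin k S).toSubfield := fun S => by
    refine le_antisymm (adj_le_iff.2 ⟨fun c hc => ?_, IntermediateField.subset_adjoin k S⟩) ?_
    · exact (bot_le : (⊥ : IntermediateField k L) ≤ IntermediateField.adjoin k S) hc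
    · rw [show (IntermediateField.adjoin k S).toSubfield = Subfield.closure (Set.range (algebraMap k L) ∪ S) from
        IntermediateField.adjoin_toSubfield k S, Subfield.closure_le]
      rintro x (⟨c, rfl⟩ | hx)
      · exact le_adj _ _ ((⊥ : IntermediateField k L).algebraMap_mem c)
      · exact subset_adj _ _ hx
  have hz₀ : Transcendental k₀ ((z : F) : L) := fun hh => hz
    (IsAlgebraic.restrictScalars (R := k) (S := (⊥ : IntermediateField k L)) hh)
  have hzm : ∀ i : s, ((i : F) : L) ∈ adj k₀ (Set.range r) := fun i => by rw [hadj]; exact (i : F).2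
  by_cases hall : ∀ a, IsAlgebraic k (r a)
  · refine hz₀ (isAlgebraic_of_isAlgebraic_adj (K := k₀) (S := Set.range r) ?_ (isAlgebraic_of_mem (hzm z)))
    rintro _ ⟨a, rfl⟩
    exact (hall a).tower_top (⊥ : IntermediateField k L)
  push Not at hall
  obtain ⟨a, ha⟩ := hall
  have hr : ∀ y ∈ Set.range r, IsAlgebraic (adj k₀ {r a}) y := by
    rintro _ ⟨b, rfl⟩
    exact isAlgebraic_mono (K := (IntermediateField.adjoin k ({r a} : Set L)).toSubfield) (hadj {r a}).ge (not_not.1 (hno a b ha))
  have halg : ∀ i : s, IsAlgebraic (adj k₀ {r a}) ((i : F) : L) := fun i =>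
    isAlgebraic_of_isAlgebraic_adj hr
      (isAlgebraic_of_mem (adj_mono (le_adj k₀ {r a}) subset_rfl (hzm i)))
  exact hw (isAlgebraic_mono (E := (IntermediateField.adjoin k ({((z : F) : L)} : Set L)).toSubfield)
    (hadj _).le (isAlgebraic_exchange hz₀ (halg z) (halg w)))

end Groth.L16.Hyper
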