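import Groth.Agent.L16.Hyperplane.Projective
import Groth.Agent.L16.Hyperplane.Pair
import Groth.Agent.L16.ProjSpace.CoordSect
import Groth.Agent.L22.SchemeDim
import Mathlib.AlgebraicGeometry.Morphisms.Integral
import Mathlib.FieldTheory.SeparableClosure

/-!
The complement of an affine open in an integral proper scheme of dimension at least two is connected.
-/

set_option autoImplicit false
set_option maxHeartbeats 800000
set_option backward.isDefEq.respectTransparency false
set_option backward.isDefEq.respectTransparency.types false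

universe u

open CategoryTheory CategoryTheory.Limits AlgebraicGeometry TopologicalSpace IsLocalRing

namespace Groth.L16.Hyper

variable {k : Type u} [Field k]

theorem value_appLE {X Y : Scheme.{u}} {M : CommRingCat.{u}} [IsLocalRing M] (e : Spec M ⟶ X) (g : X ⟶ Y)
    (O : Y.Opens) (O' : X.Opens) (hle : O' ≤ g ⁻¹ᵁ O) (he : e (closedPoint M) ∈ O') (f : Γ(Y, O)) :
    value e O' he (g.appLE O O' hle f) = value (e ≫ g) O (hle he) f := by
  rw [Scheme.Hom.appLE, CommRingCat.comp_apply]
  exact (value_res e hle he (g.app O f)).trans (value_app e g O (hle he) f)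

/-- A closed immersion into an open subscheme exhausts the closure of its image inside it. -/
theorem closure_inter_subset {T Y₁ Y : Scheme.{u}} (f : Y₁ ⟶ Y) [IsOpenImmersion f] (s : T ⟶ Y₁)
    [IsClosedImmersion s] {y : Y} (hy : y ∈ Set.range (s ≫ f)) :
    closure {y} ∩ Set.range f ⊆ Set.range (s ≫ f) := by
  rintro _ ⟨hz, w, rfl⟩
  obtain ⟨t, rfl⟩ := hy
  rw [← specializes_iff_mem_closure, Scheme.Hom.comp_apply, f.isEmbedding.isInducing.specializes_iff] at hz
  obtain ⟨t', ht'⟩ := hz.mem_closed (IsClosedImmersion.base_closed (f := s)).isClosed_range ⟨t, rfl⟩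
  exact ⟨t', by rw [Scheme.Hom.comp_apply, ht']⟩

theorem germ_app_value {X Z : Scheme.{u}} {M : CommRingCat.{u}} [IsLocalRing M] (e : Spec M ⟶ X) (f : X ⟶ Z) {x : Z}
    (φ : Z.presheaf.stalk x ⟶ M) [IsLocalHom φ.hom] (h : e ≫ f = Spec.map φ ≫ Z.fromSpecStalk x)
    (O : Z.Opens) (he : e (closedPoint M) ∈ f ⁻¹ᵁ O) (hx : x ∈ O) (w : Γ(Z, O)) :
    value e (f ⁻¹ᵁ O) he (f.app O w) = φ (Z.presheaf.germ O x hx w) :=
  (value_app e f O he w).trans ((value_congr h O _ w).trans
    (ConcreteCategory.congr_hom (Scheme.germ_stalkClosedPointTo_Spec_fromSpecStalk φ O _) w))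

/-- The ground field and maps of function fields given by field valued points. -/
theorem value_baseHom {X : Scheme.{u}} {Z : Scheme.{u}} [IsIntegral Z] {M : CommRingCat.{u}} [IsLocalRing M]
    (e : Spec M ⟶ X) (f : X ⟶ Z) (φ : Z.presheaf.stalk (genericPoint Z) ⟶ M) [IsLocalHom φ.hom]
    (h : e ≫ f = Spec.map φ ≫ Z.fromSpecStalk (genericPoint Z))
    (pZ : Z ⟶ Spec (CommRingCat.of k)) (p : X ⟶ Spec (CommRingCat.of k)) (hp : f ≫ pZ = p) (c : k) :
    value e ⊤ (Opens.mem_top _) (p.appTop ((Scheme.ΓSpecIso (CommRingCat.of k)).inv c)) = φ (baseHom pZ c) := by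
  subst hp
  exact germ_app_value e f φ h ⊤ (Opens.mem_top _) (Opens.mem_top _)
    (pZ.appTop ((Scheme.ΓSpecIso (CommRingCat.of k)).inv c))

theorem adjoin_germs_eq_top {X : Scheme.{u}} [IsIntegral X] (p : X ⟶ Spec (CommRingCat.of k))
    (U : X.Opens) (hU : IsAffineOpen U) [Nonempty U] {N : ℕ} (g : Fin N → Γ(X, U))
    (hg : letI := (secHom p U).toAlgebra
      Algebra.adjoin k (Set.range g) = ⊤) :
    letI := (baseHom p).toAlgebra
    IntermediateField.adjoin k (Set.range fun i => X.germToFunctionField U (g i)) = ⊤ := by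
  letI := (baseHom p).toAlgebra
  letI := (secHom p U).toAlgebra
  let φ : Γ(X, U) →ₐ[k] X.functionField :=
    { (X.germToFunctionField U).hom with commutes' := fun c => germ_secHom p U _ c }
  haveI := functionField_isFractionRing_of_isAffineOpen X U hU
  refine eq_top_iff.2 fun z _ => ?_
  obtain ⟨a, b, -, rfl⟩ := IsFractionRing.div_surjective (A := Γ(X, U)) z
  have hmem : ∀ a : Γ(X, U), φ a ∈ IntermediateField.adjoin k (Set.range fun i => X.germToFunctionField U (g i)) :=
    fun a => by
      have h1 : φ a ∈ (Algebra.adjoin k (Set.range g)).map φ := ⟨a, by rw [hg]; trivial, rfl⟩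
      rw [AlgHom.map_adjoin, ← Set.range_comp] at h1
      exact IntermediateField.algebra_adjoin_le_adjoin k _ h1
  exact div_mem (hmem a) (hmem b)

/-- The case of a ground field separably closed in the function field. -/
theorem isConnected_compl_affineOpen_of_sepClosed {X : Scheme.{u}} [IsIntegral X]
    (p : X ⟶ Spec (CommRingCat.of k)) [IsProper p]
    (hsep : letI := (baseHom p).toAlgebra
      ∀ e : X.functionField, IsSeparable k e → e ∈ (algebraMap k X.functionField).range)
    (htr : letI := (baseHom p).toAlgebra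
      2 ≤ Algebra.trdeg k X.functionField)
    (U : X.Opens) (hU : IsAffineOpen U) (hne : (U : Set X).Nonempty) :
    IsConnected ((U : Set X)ᶜ) := by
  letI := (baseHom p).toAlgebra
  haveI : Nonempty U := hne.to_subtype
  have hηU : genericPoint X ∈ U := (genericPoint_spec X).mem_open_set_iff U.isOpen |>.2 (by simpa using hne)
  letI algU := (secHom p U).toAlgebra
  haveI : Algebra.FiniteType k Γ(X, U) := by
    have h1 := LocallyOfFiniteType.finiteType_appLE p (isAffineOpen_top (Spec (CommRingCat.of k))) hU le_top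
    exact RingHom.finiteType_algebraMap.1 (RingHom.FiniteType.comp h1
      (RingHom.FiniteType.of_surjective _ ((ConcreteCategory.bijective_of_isIso
        (Scheme.ΓSpecIso (CommRingCat.of k)).inv).2)))
  obtain ⟨N, Φ, hΦ⟩ := Algebra.FiniteType.iff_quotient_mvPolynomial''.1 (‹Algebra.FiniteType k Γ(X, U)›)
  let g : Fin N → Γ(X, U) := fun i => Φ (MvPolynomial.X i)
  have hg : Algebra.adjoin k (Set.range g) = ⊤ := by
    rw [show Set.range g = Φ '' Set.range MvPolynomial.X from (Set.range_comp _ _), Algebra.adjoin_image,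
      MvPolynomial.adjoin_range_X, Algebra.map_top, AlgHom.range_eq_top]
    exact hΦ
  obtain ⟨a, b, ha, hb⟩ := exists_transcendental_pair (k := k) (L := X.functionField)
    (fun i => X.germToFunctionField U (g i)) (by
      rw [adjoin_germs_eq_top p U hU g hg]
      rw [IntermediateField.topEquiv.trdeg_eq]
      exact htr)
  -- the morphism to projective space
  let c : MvPolynomial (Groth.L16.ProjSpace.ChartVar N 0) k →+* Γ(X, U) :=
    MvPolynomial.eval₂Hom (secHom p U) fun i => g (i.1.pred i.2)
  have hc : Function.Surjective c := by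
    intro z
    obtain ⟨P, rfl⟩ := hΦ z
    refine ⟨MvPolynomial.rename (fun i => (⟨Fin.succ i, Fin.succ_ne_zero i⟩ : Groth.L16.ProjSpace.ChartVar N 0)) P, ?_⟩
    rw [MvPolynomial.coe_eval₂Hom, MvPolynomial.eval₂_rename]
    have hΦe : Φ = MvPolynomial.aeval g := MvPolynomial.algHom_ext fun i => by rw [MvPolynomial.aeval_X]
    rw [hΦe, MvPolynomial.aeval_def]
    exact congrArg (fun v => MvPolynomial.eval₂ (secHom p U) v P) (funext fun i => by simp)
  let χ := Groth.L16.ProjSpace.chart N k 0
  let cm : Spec Γ(X, U) ⟶ Spec (CommRingCat.of (MvPolynomial (Groth.L16.ProjSpace.ChartVar N 0) k)) :=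
    Spec.map (CommRingCat.ofHom c)
  haveI : IsClosedImmersion cm := IsClosedImmersion.spec_of_surjective _ hc
  let q := CohB1.ProjSpace.toSpec N k
  haveI : IsProper q := Groth.L16.ProjSpace.isProper_toSpec N k
  have hq : hU.fromSpec ≫ p = (cm ≫ χ) ≫ q := by
    rw [fromSpec_comp, Category.assoc, Groth.L16.ProjSpace.chart_toSpec, ← Spec.map_comp]
    congr 1
    ext1
    exact RingHom.ext fun x => (MvPolynomial.eval₂Hom_C _ _ x).symm
  let jU : Spec Γ(X, U) ⟶ pullback p q := pullback.lift hU.fromSpec (cm ≫ χ) hq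
  let e₀ : Spec (CommRingCat.of X.functionField) ⟶ pullback p q :=
    Spec.map (X.presheaf.germ U (genericPoint X) hηU) ≫ jU
  let z := e₀ (closedPoint X.functionField)
  have hzj : z ∈ Set.range jU := ⟨_, (Scheme.Hom.comp_apply _ jU _).symm⟩
  -- the graph is closed over the affine open and over the chart
  let s₁ : Spec Γ(X, U) ⟶ pullback (hU.fromSpec ≫ p) q := pullback.lift (𝟙 _) (cm ≫ χ) (by rw [Category.id_comp, hq])
  haveI : IsClosedImmersion (s₁ ≫ pullback.fst (hU.fromSpec ≫ p) q) := by rw [pullback.lift_fst]; infer_instance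
  haveI : IsClosedImmersion s₁ := IsClosedImmersion.of_comp s₁ (pullback.fst (hU.fromSpec ≫ p) q)
  let f₁ : pullback (hU.fromSpec ≫ p) q ⟶ pullback p q :=
    pullback.map _ _ _ _ hU.fromSpec (𝟙 _) (𝟙 _) (by simp) (by simp)
  have hs₁ : s₁ ≫ f₁ = jU := by
    apply pullback.hom_ext
    · rw [Category.assoc, pullback.lift_fst, pullback.lift_fst, ← Category.assoc, pullback.lift_fst, Category.id_comp]
    · rw [Category.assoc, pullback.lift_snd, pullback.lift_snd, ← Category.assoc, pullback.lift_snd, Category.comp_id]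
  let s₂ : Spec Γ(X, U) ⟶ pullback p (χ ≫ q) := pullback.lift hU.fromSpec cm (by rw [hq, Category.assoc])
  haveI : IsClosedImmersion (s₂ ≫ pullback.snd p (χ ≫ q)) := by rw [pullback.lift_snd]; infer_instance
  haveI : IsClosedImmersion s₂ := IsClosedImmersion.of_comp s₂ (pullback.snd p (χ ≫ q))
  let f₂ : pullback p (χ ≫ q) ⟶ pullback p q :=
    pullback.map _ _ _ _ (𝟙 _) χ (𝟙 _) (by simp) (by simp)
  have hs₂ : s₂ ≫ f₂ = jU := by
    apply pullback.hom_ext
    · rw [Category.assoc, pullback.lift_fst, pullback.lift_fst, ← Category.assoc, pullback.lift_fst, Category.comp_id]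
    · rw [Category.assoc, pullback.lift_snd, pullback.lift_snd, ← Category.assoc, pullback.lift_snd]
  have hr₁ : ∀ w, pullback.fst p q w ∈ U → w ∈ Set.range f₁ := by
    intro w hw
    rw [Scheme.Pullback.range_map]
    exact ⟨hU.range_fromSpec.ge hw, by simp⟩
  have hr₂ : ∀ w, pullback.snd p q w ∈ Set.range χ → w ∈ Set.range f₂ := by
    intro w hw
    rw [Scheme.Pullback.range_map]
    exact ⟨by simp, hw⟩
  obtain ⟨Γ', i, _, _, hi, hrange⟩ := Groth.L16.CohClosedPush.exists_integral (X := pullback p q) z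
  let π : Γ' ⟶ CohB1.ProjSpace N k := i ≫ pullback.snd p q
  let pΓ : Γ' ⟶ Spec (CommRingCat.of k) := i ≫ pullback.fst p q ≫ p
  haveI : IsProper pΓ := inferInstance
  let ℓ := coordForm N k 0
  have hjU : ∀ t, pullback.fst p q (jU t) ∈ U ∧
      pullback.snd p q (jU t) ∈ Proj.basicOpen (CohB1.polyGrading N k) ℓ.1 := fun t => by
    refine ⟨?_, ?_⟩
    · rw [← Scheme.Hom.comp_apply, pullback.lift_fst]; exact hU.range_fromSpec.le ⟨t, rfl⟩
    · rw [← Scheme.Hom.comp_apply, pullback.lift_snd, Scheme.Hom.comp_apply]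
      exact (Groth.L16.ProjSpace.opensRange_chart N k 0).le ⟨cm t, rfl⟩
  have hiff : ∀ w : Γ', pullback.fst p q (i w) ∈ U ↔ π w ∈ Proj.basicOpen (CohB1.polyGrading N k) ℓ.1 := by
    intro w
    have hwz : i w ∈ closure {z} := hrange.le ⟨w, rfl⟩
    constructor
    · intro hw
      have := closure_inter_subset f₁ s₁ (y := z) (by rw [hs₁]; exact hzj) ⟨hwz, hr₁ _ hw⟩
      rw [hs₁] at this
      obtain ⟨t, ht⟩ := this
      show pullback.snd p q (i w) ∈ _
      rw [← ht]; exact (hjU t).2
    · intro hw
      have := closure_inter_subset f₂ s₂ (y := z) (by rw [hs₂]; exact hzj)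
        ⟨hwz, hr₂ _ ((Groth.L16.ProjSpace.opensRange_chart N k 0).ge hw)⟩
      rw [hs₂] at this
      obtain ⟨t, ht⟩ := this
      rw [← ht]; exact (hjU t).1
  have hη : π (genericPoint Γ') ∈ Proj.basicOpen (CohB1.polyGrading N k) ℓ.1 := by
    show pullback.snd p q (i (genericPoint Γ')) ∈ _
    obtain ⟨t, ht⟩ := hzj
    rw [hi, ← ht]; exact (hjU t).2
  -- comparison of the function fields
  have hxi : Set.range e₀ ⊆ Set.range i := by
    rintro _ ⟨t, rfl⟩
    rw [hrange, Subsingleton.elim t (closedPoint X.functionField)]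
    exact subset_closure rfl
  obtain ⟨e, he⟩ := exists_lift_closed i e₀ hxi
  have hee : e (closedPoint X.functionField) = genericPoint Γ' := i.isEmbedding.injective (by
    rw [← Scheme.Hom.comp_apply, he, hi])
  let ψ : Γ'.functionField →+* X.functionField :=
    (Γ'.presheaf.stalkSpecializes (specializes_of_eq hee) ≫ Scheme.stalkClosedPointTo e).hom
  have hψg : ∀ (O : Γ'.Opens) (hO : genericPoint Γ' ∈ O) (f : Γ(Γ', O)),
      ψ (Γ'.presheaf.germ O _ hO f) = value e O (hee.symm ▸ hO) f := by
    intro O hO f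
    show (Γ'.presheaf.germ O _ hO ≫ Γ'.presheaf.stalkSpecializes (specializes_of_eq hee) ≫
      Scheme.stalkClosedPointTo e) f = _
    rw [TopCat.Presheaf.germ_stalkSpecializes_assoc]
    rfl
  have hsnd : e ≫ π = Spec.map (CommRingCat.ofHom c ≫ X.presheaf.germ U (genericPoint X) hηU) ≫ χ := by
    rw [← Category.assoc, he, Category.assoc, pullback.lift_snd, Spec.map_comp, Category.assoc]
  have hfst : e ≫ i ≫ pullback.fst p q = X.fromSpecStalk (genericPoint X) := by
    rw [← Category.assoc, he, Category.assoc, pullback.lift_fst]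
    exact hU.fromSpecStalk_eq_fromSpecStalk hηU
  let idη : X.presheaf.stalk (genericPoint X) ⟶ CommRingCat.of X.functionField := CommRingCat.ofHom (RingHom.id _)
  haveI : IsLocalHom idη.hom := ⟨fun _ h => h⟩
  have hidη : e ≫ i ≫ pullback.fst p q = Spec.map idη ≫ X.fromSpecStalk (genericPoint X) := by
    rw [hfst, show idη = 𝟙 (X.presheaf.stalk (genericPoint X)) from rfl, Spec.map_id]
    exact (Category.id_comp _).symm
  have hψb : ψ.comp (baseHom pΓ) = baseHom p := by
    ext x
    refine (hψg ⊤ (Opens.mem_top _) _).trans ?_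
    exact value_baseHom e (i ≫ pullback.fst p q) idη hidη p pΓ (Category.assoc _ _ _) x
  have hψr : ∀ i₀ : Fin N, ψ (pullFrac π (coordForm N k i₀.succ) ℓ hη) = X.germToFunctionField U (g i₀) := by
    intro i₀
    have h1 : pullFrac π (coordForm N k i₀.succ) ℓ hη =
        Γ'.presheaf.germ (π ⁻¹ᵁ Proj.basicOpen (CohB1.polyGrading N k) ℓ.1) (genericPoint Γ') hη
          (π.app _ (frac (CohB1.polyGrading N k) (coordForm N k i₀.succ) ℓ)) :=
      Scheme.Hom.germ_stalkMap_apply π _ (genericPoint Γ') hη _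
    rw [h1, hψg]
    refine (value_app e π _ _ _).trans ?_
    rw [value_congr hsnd]
    have hW : ⊤ ≤ Groth.L16.ProjSpace.chart N k 0 ⁻¹ᵁ Groth.L16.ProjSpace.dOpen N k 0 := fun z _ =>
      (Groth.L16.ProjSpace.opensRange_chart N k 0).le ⟨z, rfl⟩
    refine (value_appLE (Spec.map (CommRingCat.ofHom c ≫ X.presheaf.germ U (genericPoint X) hηU)) χ
      (Groth.L16.ProjSpace.dOpen N k 0) ⊤ hW (Opens.mem_top _)
      (frac (CohB1.polyGrading N k) (coordForm N k i₀.succ) ℓ)).symm.trans ?_
    rw [show χ.appLE (Groth.L16.ProjSpace.dOpen N k 0) ⊤ hW (frac (CohB1.polyGrading N k) (coordForm N k i₀.succ) ℓ) =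
      (Scheme.ΓSpecIso (CommRingCat.of (MvPolynomial (Groth.L16.ProjSpace.ChartVar N 0) k))).inv
        (Groth.L16.ProjSpace.cratio N k 0 i₀.succ) from Groth.L16.ProjSpace.chart_appLE_ratio N k 0 i₀.succ hW,
      value_Spec_map]
    show X.germToFunctionField U (c (Groth.L16.ProjSpace.cratio N k 0 i₀.succ)) = _
    congr 1
    rw [Groth.L16.ProjSpace.cratio, dif_neg (Fin.succ_ne_zero i₀), MvPolynomial.eval₂Hom_X']
    simp
  letI := (baseHom pΓ).toAlgebra
  let ψ' : Γ'.functionField →ₐ[k] X.functionField :=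
    { ψ with commutes' := fun x => RingHom.congr_fun hψb x }
  have hsep' : ∀ x : Γ'.functionField, IsSeparable k x → x ∈ (algebraMap k Γ'.functionField).range := by
    intro x hx
    obtain ⟨y, hy⟩ := hsep (ψ' x) (IsSeparable.map (f := ψ') (hf := ψ.injective) hx)
    exact ⟨y, ψ.injective ((RingHom.congr_fun hψb y).trans hy)⟩
  have hψa : ψ' (pullFrac π (coordForm N k a.succ) ℓ hη) = X.germToFunctionField U (g a) := hψr a
  have ha' : Transcendental k (pullFrac π (coordForm N k a.succ) ℓ hη) := fun h => ha (by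
    rw [← hψa]; exact h.algHom ψ')
  have hb' : Transcendental (IntermediateField.adjoin k ({pullFrac π (coordForm N k a.succ) ℓ hη} :
      Set Γ'.functionField)) (pullFrac π (coordForm N k b.succ) ℓ hη) := by
    intro h
    refine hb ?_
    obtain ⟨P, hP0, hP⟩ := h
    let F₀ := IntermediateField.adjoin k ({pullFrac π (coordForm N k a.succ) ℓ hη} : Set Γ'.functionField)
    let G₀ := IntermediateField.adjoin k ({X.germToFunctionField U (g a)} : Set X.functionField)
    have hFG : F₀.map ψ' = G₀ := by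
      rw [IntermediateField.adjoin_map, Set.image_singleton, hψa]
    let γ : F₀ →+* G₀ := (ψ.comp F₀.subtype).codRestrict G₀.toSubfield fun w => hFG.le ⟨w, w.2, rfl⟩
    refine ⟨P.map γ, (Polynomial.map_ne_zero_iff γ.injective).2 hP0, ?_⟩
    rw [← hψr b, Polynomial.aeval_def, Polynomial.eval₂_map]
    rw [Polynomial.aeval_def] at hP
    rw [show (algebraMap G₀ X.functionField).comp γ = ψ.comp (algebraMap F₀ Γ'.functionField) from rfl,
      ← Polynomial.hom_eval₂, hP, map_zero]
  have hmain := isConnected_compl_preimage_basicOpen pΓ hsep' π ℓ hη a.succ b.succ ha' hb'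
  have himg : ((U : Set X)ᶜ) =
      (i ≫ pullback.fst p q) '' ((π.base ⁻¹' (Proj.basicOpen (CohB1.polyGrading N k) ℓ.1).carrier)ᶜ) := by
    ext x
    constructor
    · intro hx
      have hcl : IsClosed (Set.range (i ≫ pullback.fst p q)) := (i ≫ pullback.fst p q).isClosedMap.isClosed_range
      have hgen : genericPoint X ∈ Set.range (i ≫ pullback.fst p q) := ⟨e (closedPoint X.functionField), by
        rw [← Scheme.Hom.comp_apply, hfst]; exact Scheme.fromSpecStalk_closedPoint⟩
      obtain ⟨w, rfl⟩ := ((genericPoint_spec X).symm.le.trans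
        (hcl.closure_subset_iff.2 (Set.singleton_subset_iff.2 hgen))) (Set.mem_univ x)
      exact ⟨w, fun hw => hx ((hiff w).2 hw), rfl⟩
    · rintro ⟨w, hw, rfl⟩ hU'
      exact hw ((hiff w).1 hU')
  rw [himg]
  exact hmain.image _ (Scheme.Hom.continuous _).continuousOn

/-- The complement of an affine open of an integral proper scheme of dimension at least two over a
field is connected. -/
theorem isConnected_compl_affineOpen {X : Scheme.{u}} [IsIntegral X] (p : X ⟶ Spec (CommRingCat.of k))
    [IsProper p] (hdim : (2 : WithBot ℕ∞) ≤ topologicalKrullDim X) (U : X.Opens) (hU : IsAffineOpen U)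
    (hne : (U : Set X).Nonempty) : IsConnected ((U : Set X)ᶜ) := by
  letI := (baseHom p).toAlgebra
  -- transcendence degree
  letI : X.Over (Spec (CommRingCat.of k)) := ⟨p⟩
  haveI : LocallyOfFiniteType (X ↘ Spec (CommRingCat.of k)) := inferInstanceAs (LocallyOfFiniteType p)
  obtain ⟨d, hd, htrd, -⟩ := Groth.L22.SchemeDim.exists_dim_eq_trdeg k X
  have htr : 2 ≤ Algebra.trdeg k X.functionField := by
    have h2 : (2 : ℕ) ≤ d := by
      rw [hd] at hdim
      exact_mod_cast hdim
    letI := Curv2.resAlgebra k X (genericPoint X)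
    let ρ : X.functionField →ₐ[k] X.residueField (genericPoint X) :=
      { (X.residue (genericPoint X)).hom with commutes' := fun x => rfl }
    have hbij : Function.Bijective ρ := by
      refine ⟨RingHom.injective (R := X.functionField) (ρ : X.functionField →+* X.residueField (genericPoint X)), ?_⟩
      exact IsLocalRing.residue_surjective
    rw [(AlgEquiv.ofBijective ρ hbij).trdeg_eq, htrd]
    exact_mod_cast h2
  -- pass to the separable closure of the ground field in the function field
  let k₁ := separableClosure k X.functionField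
  let σ := Spec.map (CommRingCat.ofHom (algebraMap k k₁))
  haveI : Algebra.IsIntegral k k₁ := ⟨fun x =>
    (isIntegral_algHom_iff k₁.val Subtype.val_injective).1 (mem_separableClosure_iff.1 x.2).isIntegral⟩
  haveI : IsIntegralHom σ := IsIntegralHom.SpecMap_iff.2 (algebraMap_isIntegral_iff.2 inferInstance)
  have hcomm : X.fromSpecStalk (genericPoint X) ≫ p = Spec.map (CommRingCat.ofHom k₁.val.toRingHom) ≫ σ := by
    obtain ⟨_, ⟨V, hV, rfl⟩, hηV, -⟩ :=
      X.isBasis_affineOpens.exists_subset_of_mem_open (Set.mem_univ (genericPoint X)) isOpen_univ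
    rw [← hV.fromSpecStalk_eq_fromSpecStalk hηV, IsAffineOpen.fromSpecStalk, Category.assoc, fromSpec_comp,
      ← Spec.map_comp, ← Spec.map_comp]
    congr 1
    ext1
    exact RingHom.ext fun x => germ_secHom p V hηV x
  let e₀ : Spec (CommRingCat.of X.functionField) ⟶ pullback p σ :=
    pullback.lift (X.fromSpecStalk (genericPoint X)) (Spec.map (CommRingCat.ofHom k₁.val.toRingHom)) hcomm
  obtain ⟨X₁, i, _, _, hi, hrange⟩ :=
    Groth.L16.CohClosedPush.exists_integral (X := pullback p σ) (e₀ (closedPoint X.functionField))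
  let p₁ : X₁ ⟶ Spec (CommRingCat.of k₁) := i ≫ pullback.snd p σ
  haveI : IsProper p₁ := inferInstance
  let f : X₁ ⟶ X := i ≫ pullback.fst p σ
  haveI : IsAffineHom (pullback.fst p σ) := MorphismProperty.pullback_fst _ _ inferInstance
  haveI : IsAffineHom f := inferInstance
  haveI : IsIntegralHom (pullback.fst p σ) := MorphismProperty.pullback_fst _ _ inferInstance
  haveI : IsIntegralHom f := inferInstance
  have hxi : Set.range e₀ ⊆ Set.range i := by
    rintro _ ⟨t, rfl⟩
    rw [hrange, Subsingleton.elim t (closedPoint X.functionField)]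
    exact subset_closure rfl
  obtain ⟨e, he⟩ := exists_lift_closed i e₀ hxi
  have hee : e (closedPoint X.functionField) = genericPoint X₁ := i.isEmbedding.injective (by
    rw [← Scheme.Hom.comp_apply, he, hi])
  let ψ : X₁.functionField →+* X.functionField :=
    (X₁.presheaf.stalkSpecializes (specializes_of_eq hee) ≫ Scheme.stalkClosedPointTo e).hom
  have hψb : ψ.comp (baseHom p₁) = k₁.val.toRingHom := by
    ext x
    show (X₁.presheaf.germ ⊤ (genericPoint X₁) (Opens.mem_top _) ≫
      X₁.presheaf.stalkSpecializes (specializes_of_eq hee) ≫ Scheme.stalkClosedPointTo e)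
        (p₁.appTop ((Scheme.ΓSpecIso (CommRingCat.of k₁)).inv x)) = _
    rw [TopCat.Presheaf.germ_stalkSpecializes_assoc]
    refine (value_app e p₁ ⊤ (Opens.mem_top _) ((Scheme.ΓSpecIso (CommRingCat.of k₁)).inv x)).trans ?_
    rw [value_congr (show e ≫ p₁ = Spec.map (CommRingCat.ofHom k₁.val.toRingHom) by
      rw [← Category.assoc, he]; exact pullback.lift_snd _ _ _), value_Spec_map]
    rfl
  letI := (baseHom p₁).toAlgebra
  let ψ' : X₁.functionField →ₐ[k₁] X.functionField :=
    { ψ with commutes' := fun x => RingHom.congr_fun hψb x }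
  have hsep₁ : ∀ x : X₁.functionField, IsSeparable k₁ x → x ∈ (algebraMap k₁ X₁.functionField).range := by
    intro x hx
    have h1 : IsSeparable k₁ (ψ' x) := IsSeparable.map (f := ψ') (hf := ψ.injective) hx
    have h2 : ψ' x ∈ k₁ := mem_separableClosure_iff.2 (IsSeparable.of_algebra_isSeparable_of_isSeparable k h1)
    exact ⟨⟨ψ' x, h2⟩, ψ.injective (RingHom.congr_fun hψb _)⟩
  have hf : f (genericPoint X₁) = genericPoint X := by
    rw [← hee, ← Scheme.Hom.comp_apply, ← Category.assoc, he, pullback.lift_fst]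
    exact Scheme.fromSpecStalk_closedPoint
  have hsurj : Function.Surjective f := by
    rw [← Set.range_eq_univ, ← Set.univ_subset_iff]
    exact (genericPoint_spec X).symm.le.trans
      (f.isClosedMap.isClosed_range.closure_subset_iff.2 (Set.singleton_subset_iff.2 ⟨_, hf⟩))
  -- the pullback of the stalk map is surjective
  have hψs : Function.Surjective ψ := by
    intro y
    refine ⟨f.stalkMap (genericPoint X₁) (X.presheaf.stalkSpecializes (specializes_of_eq hf) y), ?_⟩
    obtain ⟨O, hO, w, rfl⟩ := X.presheaf.exists_germ_eq y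
    rw [TopCat.Presheaf.germ_stalkSpecializes_apply, Scheme.Hom.germ_stalkMap_apply]
    show (X₁.presheaf.germ (f ⁻¹ᵁ O) (genericPoint X₁) _ ≫
      X₁.presheaf.stalkSpecializes (specializes_of_eq hee) ≫ Scheme.stalkClosedPointTo e) (f.app O w) = _
    rw [TopCat.Presheaf.germ_stalkSpecializes_assoc]
    let idη : X.presheaf.stalk (genericPoint X) ⟶ CommRingCat.of X.functionField := CommRingCat.ofHom (RingHom.id _)
    haveI : IsLocalHom idη.hom := ⟨fun _ h => h⟩
    have hidη : e ≫ f = Spec.map idη ≫ X.fromSpecStalk (genericPoint X) := by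
      rw [show idη = 𝟙 (X.presheaf.stalk (genericPoint X)) from rfl, Spec.map_id, ← Category.assoc, he]
      exact (pullback.lift_fst _ _ _).trans (Category.id_comp _).symm
    exact germ_app_value e f idη hidη O _ hO w
  have htr₁ : 2 ≤ Algebra.trdeg k₁ X₁.functionField := by
    rw [(AlgEquiv.ofBijective ψ' ⟨ψ.injective, hψs⟩).trdeg_eq]
    have h0 : Algebra.trdeg k k₁ = 0 := trdeg_eq_zero_iff.2 ⟨fun x => (Algebra.IsIntegral.isIntegral x).isAlgebraic⟩
    have := trdeg_add_eq k k₁ (A := X.functionField)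
    rw [h0, zero_add] at this
    rw [this]
    exact htr
  have hU₁ : IsAffineOpen (f ⁻¹ᵁ U) := hU.preimage f
  have hne₁ : ((f ⁻¹ᵁ U : X₁.Opens) : Set X₁).Nonempty := by
    obtain ⟨x, hx⟩ := hne
    obtain ⟨w, rfl⟩ := hsurj x
    exact ⟨w, hx⟩
  have hmain := isConnected_compl_affineOpen_of_sepClosed p₁ hsep₁ htr₁ (f ⁻¹ᵁ U) hU₁ hne₁
  have himg : ((U : Set X)ᶜ) = f '' ((f ⁻¹ᵁ U : X₁.Opens) : Set X₁)ᶜ := by
    rw [show ((f ⁻¹ᵁ U : X₁.Opens) : Set X₁) = f ⁻¹' (U : Set X) from rfl, ← Set.preimage_compl,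
      Set.image_preimage_eq _ hsurj]
  rw [himg]
  exact hmain.image _ (Scheme.Hom.continuous _).continuousOn

end Groth.L16.Hyper
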