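import Mathlib.AlgebraicGeometry.FunctionField
import Mathlib.AlgebraicGeometry.ResidueField
import Mathlib.AlgebraicGeometry.Morphisms.ClosedImmersion
import Mathlib.AlgebraicGeometry.Morphisms.Immersion

/-!
Values of sections at points with values in fields.
-/

set_option autoImplicit false

universe u

open CategoryTheory CategoryTheory.Limits AlgebraicGeometry TopologicalSpace IsLocalRing

namespace Groth.L16.Hyper

variable {X Y : Scheme.{u}} {M : CommRingCat.{u}} [IsLocalRing M]

/-- The value of a section at a point with values in a local ring. -/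
noncomputable def value (e : Spec M ⟶ X) (O : X.Opens) (he : e (closedPoint M) ∈ O) : Γ(X, O) →+* M :=
  (X.presheaf.germ O _ he ≫ Scheme.stalkClosedPointTo e).hom

theorem value_congr {e e' : Spec M ⟶ X} (h : e = e') (O : X.Opens) (he : e (closedPoint M) ∈ O) (f : Γ(X, O)) :
    value e O he f = value e' O (h ▸ he) f := by subst h; rfl

theorem value_app (e : Spec M ⟶ X) (g : X ⟶ Y) (O : Y.Opens) (he : e (closedPoint M) ∈ g ⁻¹ᵁ O) (f : Γ(Y, O)) :
    value e (g ⁻¹ᵁ O) he (g.app O f) = value (e ≫ g) O he f := by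
  show (g.app O ≫ X.presheaf.germ (g ⁻¹ᵁ O) _ he ≫ Scheme.stalkClosedPointTo e) f =
    (Y.presheaf.germ O (g (e (closedPoint M))) he ≫ Scheme.stalkClosedPointTo (e ≫ g)) f
  rw [Scheme.stalkClosedPointTo_comp, Scheme.Hom.germ_stalkMap_assoc]

theorem value_res (e : Spec M ⟶ X) {O O' : X.Opens} (hle : O' ≤ O) (he : e (closedPoint M) ∈ O') (f : Γ(X, O)) :
    value e O' he (X.presheaf.map (homOfLE hle).op f) = value e O (hle he) f := by
  show Scheme.stalkClosedPointTo e (X.presheaf.germ O' _ he (X.presheaf.map (homOfLE hle).op f)) = _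
  rw [TopCat.Presheaf.germ_res_apply]
  rfl

/-- A section vanishing at a field valued point is not invertible there. -/
theorem notMem_basicOpen_of_value_eq_zero {K : Type u} [Field K] (e : Spec (CommRingCat.of K) ⟶ X) (O : X.Opens)
    (he : e (closedPoint K) ∈ O) (f : Γ(X, O)) (h : value e O he f = 0) :
    e (closedPoint K) ∉ X.basicOpen f := by
  rw [Scheme.mem_basicOpen X f _ he]
  intro hu
  exact not_isUnit_zero (h ▸ (hu.map (Scheme.stalkClosedPointTo e).hom) :)

theorem value_fromSpecStalk {K : Type u} [Field K] {x : X} (φ : X.presheaf.stalk x ⟶ CommRingCat.of K)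
    [IsLocalHom φ.hom] (U : X.Opens) (hU : (Spec.map φ ≫ X.fromSpecStalk x) (closedPoint K) ∈ U) (hx : x ∈ U)
    (f : Γ(X, U)) : value (Spec.map φ ≫ X.fromSpecStalk x) U hU f = φ (X.presheaf.germ U x hx f) :=
  ConcreteCategory.congr_hom (Scheme.germ_stalkClosedPointTo_Spec_fromSpecStalk φ U hU) f

theorem value_Spec_map {R : CommRingCat.{u}} (ψ : R ⟶ M) (r : R) :
    value (Spec.map ψ) ⊤ trivial ((Scheme.ΓSpecIso R).inv r) = ψ r := by
  show ((Scheme.ΓSpecIso R).inv ≫ (Spec R).presheaf.germ ⊤ _ trivial ≫ Scheme.stalkClosedPointTo (Spec.map ψ)) r = _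
  rw [Scheme.germ_stalkClosedPointTo_Spec, Iso.inv_hom_id_assoc]

/-- Factorisation of a point with values in a reduced ring through a closed subscheme. -/
theorem exists_lift_closed {T : Scheme.{u}} [IsReduced T] {I : Scheme.{u}} (i : I ⟶ X) [IsClosedImmersion i]
    (e : T ⟶ X) (h : Set.range e ⊆ Set.range i) : ∃ e' : T ⟶ I, e' ≫ i = e := by
  have hsurj : Function.Surjective (pullback.fst e i) := by
    rw [← Set.range_eq_univ, Scheme.Pullback.range_fst, Set.preimage_eq_univ_iff]
    exact h
  haveI : Surjective (pullback.fst e i) := ⟨hsurj⟩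
  haveI : IsIso (pullback.fst e i) := isIso_of_isClosedImmersion_of_surjective _
  exact ⟨inv (pullback.fst e i) ≫ pullback.snd e i, by rw [Category.assoc, ← pullback.condition, IsIso.inv_hom_id_assoc]⟩

/-- The elements of the function field of an affine domain. -/
theorem fieldRange_functionField (R : CommRingCat.{u}) [IsDomain R] {F : Type u} [Field F]
    (θ : (Spec R).functionField →+* F) :
    θ.fieldRange = Subfield.closure (Set.range fun r : R =>
      θ ((Spec R).presheaf.germ ⊤ (genericPoint (Spec R)) trivial ((Scheme.ΓSpecIso R).inv r))) := by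
  have halg : ∀ r : R, algebraMap R (Spec R).functionField r =
      (Spec R).presheaf.germ ⊤ (genericPoint (Spec R)) trivial ((Scheme.ΓSpecIso R).inv r) := fun r => rfl
  refine le_antisymm ?_ (Subfield.closure_le.2 ?_)
  · rintro _ ⟨f, rfl⟩
    obtain ⟨r, s, -, rfl⟩ := IsFractionRing.div_surjective (A := R) f
    rw [map_div₀, halg, halg]
    exact div_mem (Subfield.subset_closure ⟨r, rfl⟩) (Subfield.subset_closure ⟨s, rfl⟩)
  · rintro _ ⟨r, rfl⟩
    exact ⟨_, rfl⟩

end Groth.L16.Hyper
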