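import Groth.Agent.L16.Hyperplane.GenericField
import Groth.Agent.L16.Hyperplane.Values
import Groth.Agent.L16.CohClosedPush
import Groth.Agent.L16.Connected.OpenCase
import Groth.Agent.S4484
import Mathlib.AlgebraicGeometry.Morphisms.Proper
import Mathlib.AlgebraicGeometry.Fiber

/-!
Connectedness of the preimage of a hyperplane, via the universal family of hyperplanes.
-/

set_option autoImplicit false
set_option maxHeartbeats 800000

universe u

open CategoryTheory CategoryTheory.Limits AlgebraicGeometry TopologicalSpace IsLocalRing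

namespace Groth.L16.Hyper

variable {k : Type u} [Field k] {Γ' : Scheme.{u}}

/-- The ground field acting on the function field. -/
noncomputable def baseHom [IsIntegral Γ'] (p : Γ' ⟶ Spec (CommRingCat.of k)) : k →+* Γ'.functionField :=
  ((Scheme.ΓSpecIso (CommRingCat.of k)).inv ≫ p.appTop ≫
    Γ'.presheaf.germ ⊤ (genericPoint Γ') trivial).hom

/-- The ground field acting on sections. -/
noncomputable def secHom (p : Γ' ⟶ Spec (CommRingCat.of k)) (V : Γ'.Opens) : k →+* Γ(Γ', V) :=
  ((Scheme.ΓSpecIso (CommRingCat.of k)).inv ≫ p.appLE ⊤ V le_top).hom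

theorem germ_secHom [IsIntegral Γ'] (p : Γ' ⟶ Spec (CommRingCat.of k)) (V : Γ'.Opens) (hV : genericPoint Γ' ∈ V) (c : k) :
    Γ'.presheaf.germ V (genericPoint Γ') hV (secHom p V c) = baseHom p c := by
  show ((Scheme.ΓSpecIso (CommRingCat.of k)).inv ≫ p.appLE ⊤ V le_top ≫ Γ'.presheaf.germ V _ hV) c = _
  rw [Scheme.Hom.appLE, Category.assoc, TopCat.Presheaf.germ_res]
  rfl

theorem fromSpec_comp (p : Γ' ⟶ Spec (CommRingCat.of k)) {V : Γ'.Opens} (hV : IsAffineOpen V) :
    hV.fromSpec ≫ p = Spec.map (CommRingCat.ofHom (secHom p V)) := by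
  rw [← IsAffineOpen.SpecMap_appLE_fromSpec p (isAffineOpen_top _) hV le_top,
    IsAffineOpen.fromSpec_top, Scheme.isoSpec_Spec_inv, ← Spec.map_comp]
  rfl

open MvPolynomial in
/-- The complement of the open set where a hyperplane coordinate is invertible is connected, as soon
as the ground field is separably closed in the function field and the coordinates have
transcendence degree at least two. -/
theorem isConnected_compl_of_coordinates [IsIntegral Γ'] (p : Γ' ⟶ Spec (CommRingCat.of k)) [IsProper p]
    (hsep : letI := (baseHom p).toAlgebra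
      ∀ e : Γ'.functionField, IsSeparable k e → e ∈ (algebraMap k Γ'.functionField).range)
    {ι : Type} [Fintype ι] [DecidableEq ι] (W₀ : Γ'.Opens) (W : ι → Γ'.Opens)
    (hcov : ∀ γ : Γ', γ ∈ W₀ ∨ ∃ l, γ ∈ W l)
    (y : ∀ l, Γ(Γ', W l)) (u : ∀ l, ι → Γ(Γ', W l)) (v : ι → Γ(Γ', W₀))
    (Y : Γ'.functionField) (x : ι → Γ'.functionField) {j i₀ : ι} (hij : i₀ ≠ j) (hxj : x j = 1)
    (hx : ∀ l (h : genericPoint Γ' ∈ W l) i, x i = x l * Γ'.presheaf.germ (W l) _ h (u l i))
    (hY : ∀ l (h : genericPoint Γ' ∈ W l), Y = x l * Γ'.presheaf.germ (W l) _ h (y l))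
    (hv : ∀ (h : genericPoint Γ' ∈ W₀) i, Γ'.presheaf.germ W₀ _ h (v i) * Y = x i)
    (hle : ∀ l, Γ'.basicOpen (y l) ≤ W₀)
    (hYt : letI := (baseHom p).toAlgebra
      Transcendental k Y)
    (hxt : letI := (baseHom p).toAlgebra
      Transcendental (IntermediateField.adjoin k ({Y} : Set Γ'.functionField)) (x i₀)) :
    IsConnected ((W₀ : Set Γ')ᶜ) := by
  classical
  letI algk : Algebra k Γ'.functionField := (baseHom p).toAlgebra
  let η := genericPoint Γ'
  obtain ⟨M, hM, φ, a, hsolve, hker, hinj, hsc⟩ :=
    exists_universal_field (k := k) (L := Γ'.functionField) hsep hij x Y hYt hxt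
  -- base and ambient scheme
  let R : CommRingCat.{u} := CommRingCat.of (MvPolynomial ι k)
  let q : Spec R ⟶ Spec (CommRingCat.of k) := Spec.map (CommRingCat.ofHom (MvPolynomial.C : k →+* MvPolynomial ι k))
  let ev : R ⟶ CommRingCat.of M := CommRingCat.ofHom (eval₂Hom (φ.comp (baseHom p)) a)
  let φ' : Γ'.presheaf.stalk η ⟶ CommRingCat.of M := CommRingCat.ofHom φ
  haveI : IsLocalHom φ'.hom := inferInstanceAs (IsLocalHom φ)
  have hgen : ∀ (V : Γ'.Opens) (hV : IsAffineOpen V) (hη : η ∈ V),
      Γ'.fromSpecStalk η = Spec.map (Γ'.presheaf.germ V η hη) ≫ hV.fromSpec := fun V hV hη =>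
    (hV.fromSpecStalk_eq_fromSpecStalk hη).symm
  have hcomm : (Spec.map φ' ≫ Γ'.fromSpecStalk η) ≫ p = Spec.map ev ≫ q := by
    obtain ⟨_, ⟨V, hV, rfl⟩, hηV, -⟩ :=
      Γ'.isBasis_affineOpens.exists_subset_of_mem_open (Set.mem_univ η) isOpen_univ
    rw [hgen V hV hηV, Category.assoc, Category.assoc, fromSpec_comp, ← Spec.map_comp, ← Spec.map_comp,
      ← Spec.map_comp]
    congr 1
    ext c
    show φ (Γ'.presheaf.germ V η hηV (secHom p V c)) = eval₂Hom (φ.comp (baseHom p)) a (MvPolynomial.C c)
    rw [germ_secHom, eval₂Hom_C]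
    rfl
  let ξ : Spec (CommRingCat.of M) ⟶ pullback p q := pullback.lift _ _ hcomm
  let z := ξ (closedPoint M)
  obtain ⟨I, i, _, _, hi, hrange⟩ := Groth.L16.CohClosedPush.exists_integral (X := pullback p q) z
  have hξrange : Set.range ξ ⊆ Set.range i := by
    rintro _ ⟨t, rfl⟩
    rw [hrange, Subsingleton.elim t (closedPoint M)]
    exact subset_closure rfl
  obtain ⟨e, he⟩ := exists_lift_closed i ξ hξrange
  let h : I ⟶ Spec R := i ≫ pullback.snd p q
  haveI : IsDomain R := inferInstanceAs (IsDomain (MvPolynomial ι k))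
  haveI : IsNoetherianRing R := inferInstanceAs (IsNoetherianRing (MvPolynomial ι k))
  haveI : IsProper h := inferInstance
  haveI : IsLocallyNoetherian I := LocallyOfFiniteType.isLocallyNoetherian h
  have hee : e (closedPoint M) = genericPoint I := i.isEmbedding.injective (by
    rw [← Scheme.Hom.comp_apply, he, hi])
  have heh : e ≫ h = Spec.map ev := by
    rw [← Category.assoc, he]; exact pullback.lift_snd _ _ _
  have hgenB : (Spec.map ev) (closedPoint M) = genericPoint (Spec R) := by
    rw [genericPoint_eq_bot_of_affine]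
    refine PrimeSpectrum.ext ?_
    show Ideal.comap ev.hom (maximalIdeal M) = ⊥
    rw [maximalIdeal_eq_bot]
    exact Ideal.comap_bot_of_injective ev.hom hinj
  have hhgen : h (genericPoint I) = genericPoint (Spec R) := by
    rw [← hee, ← Scheme.Hom.comp_apply, heh, hgenB]
  have hdom : h.base (genericPoint I) ⤳ genericPoint (Spec R) := specializes_of_eq hhgen
  -- the origin
  let eR : R ⟶ CommRingCat.of k := CommRingCat.ofHom (eval₂Hom (RingHom.id k) (fun _ : ι => (0 : k)))
  let o : Spec R := Spec.map eR (closedPoint k)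
  have ho : ∀ i', MvPolynomial.X i' ∈ o.asIdeal := fun i' => by
    show eR (MvPolynomial.X i') ∈ maximalIdeal k
    rw [maximalIdeal_eq_bot, Ideal.mem_bot]
    exact eval₂_X _ _ i'
  -- image of the fibre is contained in the boundary
  have hsub : ∀ w : I, h w = o → pullback.fst p q (i w) ∉ W₀ := by
    intro w hw hwW
    let O : (pullback p q).Opens := pullback.fst p q ⁻¹ᵁ W₀
    let A : ι → Γ(pullback p q, O) := fun i' =>
      (pullback p q).presheaf.map (homOfLE (le_top : O ≤ ⊤)).op
        ((pullback.snd p q).app ⊤ ((Scheme.ΓSpecIso R).inv (MvPolynomial.X i')))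
    let B : ι → Γ(pullback p q, O) := fun i' => (pullback.fst p q).app W₀ (v i')
    let f : Γ(pullback p q, O) := ∑ i', A i' * B i' - 1
    have hzw : z ⤳ i w := by
      rw [← hi]; exact (genericPoint_specializes w).map i.continuous
    have hzO : ξ (closedPoint M) ∈ O := hzw.mem_open O.isOpen hwW
    have hfst : ξ ≫ pullback.fst p q = Spec.map φ' ≫ Γ'.fromSpecStalk η := pullback.lift_fst _ _ _
    have hsnd : ξ ≫ pullback.snd p q = Spec.map ev := pullback.lift_snd _ _ _
    have hηW : η ∈ W₀ := (genericPoint_specializes _).mem_open W₀.isOpen hwW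
    have hA : ∀ i', value ξ O hzO (A i') = a i' := fun i' => by
      rw [value_res]
      refine (value_app ξ (pullback.snd p q) ⊤ trivial ((Scheme.ΓSpecIso R).inv (MvPolynomial.X i'))).trans ?_
      rw [value_congr hsnd, value_Spec_map]
      exact eval₂_X _ _ i'
    have hB : ∀ i', value ξ O hzO (B i') = φ (Γ'.presheaf.germ W₀ η hηW (v i')) := fun i' => by
      refine (value_app ξ (pullback.fst p q) W₀ hzO (v i')).trans ?_
      rw [value_congr hfst, value_fromSpecStalk φ' W₀ _ hηW]
      rfl
    have hrel : φ Y = ∑ i', a i' * φ (x i') := by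
      have h0 := hsolve (MvPolynomial.X j)
      rw [eval₂_X, solve, aeval_X, if_pos rfl, eval₂_sub, eval₂_C, eval₂_sum] at h0
      rw [← Finset.add_sum_erase _ _ (Finset.mem_univ j), hxj, map_one, mul_one, h0]
      rw [sub_add_eq_add_sub, eq_sub_iff_add_eq]
      refine congrArg (φ Y + ·) (Finset.sum_congr rfl fun l _ => ?_)
      rw [eval₂_mul, eval₂_C, eval₂_X, mul_comm]
    have hf0 : value ξ O hzO f = 0 := by
      have hY0 : φ Y ≠ 0 := (map_ne_zero φ).2 fun h0 => hYt (h0 ▸ isAlgebraic_zero)
      simp only [f, map_sub, map_sum, map_mul, map_one, hA, hB]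
      rw [sub_eq_zero, ← mul_left_inj' hY0, Finset.sum_mul, one_mul, hrel]
      refine Finset.sum_congr rfl fun i' _ => ?_
      rw [← hrel, mul_assoc, ← map_mul, hv hηW]
    have hnot := notMem_basicOpen_of_value_eq_zero ξ O hzO f hf0
    have hwf : i w ∈ (pullback p q).basicOpen f := by
      rw [Scheme.mem_basicOpen _ f _ hwW]
      have hAmem : ∀ i', (pullback p q).presheaf.germ O (i w) hwW (A i') ∈ maximalIdeal _ := fun i' => by
        rw [mem_maximalIdeal, mem_nonunits_iff, TopCat.Presheaf.germ_res_apply]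
        intro hu
        have h1 : i w ∈ (pullback p q).basicOpen ((pullback.snd p q).app ⊤ ((Scheme.ΓSpecIso R).inv (MvPolynomial.X i'))) :=
          (Scheme.mem_basicOpen _ _ _ _).2 hu
        rw [← Scheme.preimage_basicOpen, basicOpen_eq_of_affine] at h1
        exact (PrimeSpectrum.mem_basicOpen (MvPolynomial.X i' : R) (h w)).1 h1 (hw ▸ ho i')
      have hs : (pullback p q).presheaf.germ O (i w) hwW (∑ i', A i' * B i') ∈ maximalIdeal _ := by
        rw [map_sum]
        exact Ideal.sum_mem _ fun i' _ => by rw [map_mul]; exact Ideal.mul_mem_right _ _ (hAmem i')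
      by_contra hnu
      have h2 := Ideal.sub_mem _ hs ((mem_maximalIdeal _).2 hnu)
      simp only [f, map_sub, map_one, sub_sub_cancel] at h2
      exact (Ideal.ne_top_iff_one _).1 (maximalIdeal.isMaximal _).ne_top h2
    exact hnot (hzw.mem_open ((pullback p q).basicOpen f).isOpen hwf)
  -- every boundary point occurs
  have hsup : ∀ γ : Γ', γ ∉ W₀ → ∃ w : I, h w = o ∧ pullback.fst p q (i w) = γ := by
    intro γ hγ
    obtain ⟨l, hl⟩ := (hcov γ).resolve_left hγ
    obtain ⟨_, ⟨V, hV, rfl⟩, hγV, hVl₀⟩ :=
      Γ'.isBasis_affineOpens.exists_subset_of_mem_open hl (W l).isOpen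
    have hVl : V ≤ W l := hVl₀
    have hηV : η ∈ V := (genericPoint_specializes γ).mem_open V.isOpen hγV
    have hηl : η ∈ W l := hVl hηV
    let A : CommRingCat.{u} := CommRingCat.of (MvPolynomial ι Γ(Γ', V))
    let ρ := secHom p V
    have hmcomm : (Spec.map (CommRingCat.ofHom (MvPolynomial.C : Γ(Γ', V) →+* MvPolynomial ι Γ(Γ', V))) ≫ hV.fromSpec) ≫ p =
        Spec.map (CommRingCat.ofHom (MvPolynomial.map ρ : MvPolynomial ι k →+* MvPolynomial ι Γ(Γ', V))) ≫ q := by
      rw [Category.assoc, fromSpec_comp, ← Spec.map_comp, ← Spec.map_comp]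
      congr 1
      ext1
      exact RingHom.ext fun c => (MvPolynomial.map_C ρ c).symm
    let m : Spec A ⟶ pullback p q := pullback.lift _ _ hmcomm
    let g : Γ(Γ', V) →+* M := φ.comp (Γ'.presheaf.germ V η hηV).hom
    let evA : A ⟶ CommRingCat.of M := CommRingCat.ofHom (eval₂Hom g a)
    have hξm : Spec.map evA ≫ m = ξ := by
      apply pullback.hom_ext
      · rw [Category.assoc, pullback.lift_fst, ← Category.assoc, ← Spec.map_comp, pullback.lift_fst, hgen V hV hηV,
          ← Category.assoc, ← Spec.map_comp]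
        congr 2
        ext c
        exact eval₂_C g a c
      · rw [Category.assoc, pullback.lift_snd, ← Spec.map_comp, pullback.lift_snd]
        congr 1
        ext1
        refine MvPolynomial.ringHom_ext (fun c => ?_) (fun i' => ?_)
        · show eval₂Hom g a (MvPolynomial.map ρ (MvPolynomial.C c)) = eval₂Hom (φ.comp (baseHom p)) a (MvPolynomial.C c)
          rw [MvPolynomial.map_C, eval₂Hom_C, eval₂Hom_C]
          exact congrArg φ (germ_secHom p V hηV c)
        · show eval₂Hom g a (MvPolynomial.map ρ (MvPolynomial.X i')) = eval₂Hom (φ.comp (baseHom p)) a (MvPolynomial.X i')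
          rw [MvPolynomial.map_X, eval₂Hom_X', eval₂Hom_X']
    let res : Γ(Γ', V) →+* Γ'.residueField γ := (Γ'.presheaf.germ V γ hγV ≫ Γ'.residue γ).hom
    let evγ₀ : MvPolynomial ι Γ(Γ', V) →+* Γ'.residueField γ := eval₂Hom res (fun _ : ι => (0 : Γ'.residueField γ))
    let evγ : A ⟶ Γ'.residueField γ := CommRingCat.ofHom evγ₀
    let yV : Γ(Γ', V) := Γ'.presheaf.map (homOfLE hVl).op (y l)
    let uV : ι → Γ(Γ', V) := fun i' => Γ'.presheaf.map (homOfLE hVl).op (u l i')
    let sub : MvPolynomial ι Γ(Γ', V) →+* MvPolynomial ι Γ(Γ', V) :=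
      eval₂Hom MvPolynomial.C fun i' => if i' = l then MvPolynomial.C yV -
        ∑ l' ∈ Finset.univ.erase l, MvPolynomial.C (uV l') * MvPolynomial.X l' else MvPolynomial.X i'
    have hy0 : res yV = 0 := by
      show Γ'.residue γ (Γ'.presheaf.germ V γ hγV (Γ'.presheaf.map (homOfLE hVl).op (y l))) = 0
      rw [TopCat.Presheaf.germ_res_apply]
      by_contra hne
      have : γ ∈ Γ'.basicOpen (y l) := by
        rw [Scheme.mem_basicOpen _ _ _ (hVl hγV)]
        by_contra hnu
        exact hne ((residue_eq_zero_iff _).2 hnu)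
      exact hγ (hle l this)
    have hsubγ : evγ₀.comp sub = evγ₀ := by
      refine MvPolynomial.ringHom_ext (fun c => ?_) (fun i' => ?_)
      · simp [sub]
      · by_cases hi' : i' = l
        · subst hi'
          simp [sub, evγ₀, hy0]
        · simp [sub, hi']
    let γL : MvPolynomial ι Γ(Γ', V) →+* MvPolynomial ι Γ'.functionField :=
      MvPolynomial.map (Γ'.presheaf.germ V η hηV).hom
    let u' : ι → Γ'.functionField := fun i' => Γ'.presheaf.germ (W l) η hηl (u l i')
    let y' : Γ'.functionField := Γ'.presheaf.germ (W l) η hηl (y l)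
    have hsubL : ∀ P, γL (sub P) = solve l u' y' (γL P) := by
      intro P
      refine RingHom.congr_fun (show γL.comp sub = (solve l u' y').toRingHom.comp γL from ?_) P
      refine MvPolynomial.ringHom_ext (fun c => ?_) (fun i' => ?_)
      · simp [γL, sub, solve]
      · by_cases hi' : i' = l
        · subst hi'
          have hu : ∀ (t : Γ(Γ', W i')), Γ'.presheaf.germ V η hηV (Γ'.presheaf.map (homOfLE hVl).op t) =
              Γ'.presheaf.germ (W i') η hηl t := fun t => TopCat.Presheaf.germ_res_apply _ _ _ _ _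
          simp [γL, sub, solve, u', y', yV, uV, hu]
        · simp [γL, sub, solve, hi']
    have hkerle : ∀ P, evA P = 0 → evγ P = 0 := by
      intro P hP
      have h0 : solve j x Y (γL P) = 0 := hker _ (by
        rw [MvPolynomial.eval₂_map]; exact hP)
      have h1 : solve l u' y' (γL P) = 0 := by
        rw [← solve_comp (j := j) (x := x) (y := Y) hxj (hx l hηl) (hY l hηl), AlgHom.comp_apply, h0, map_zero]
      have h2 : sub P = 0 := MvPolynomial.map_injective (Γ'.presheaf.germ V η hηV).hom
        (germ_injective_of_isIntegral Γ' η hηV) (show γL (sub P) = γL 0 by rw [map_zero, hsubL, h1])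
      show evγ₀ P = 0
      rw [← RingHom.congr_fun hsubγ P]
      show evγ₀ (sub P) = 0
      rw [h2, map_zero]
    let t : Spec A := Spec.map evγ (closedPoint (Γ'.residueField γ))
    have hspec : Spec.map evA (closedPoint M) ⤳ t := by
      refine (PrimeSpectrum.le_iff_specializes _ _).1 ?_
      intro P hP
      show evγ P ∈ maximalIdeal _
      rw [maximalIdeal_eq_bot, Ideal.mem_bot]
      refine hkerle P ?_
      have hP' : evA P ∈ maximalIdeal M := hP
      rwa [maximalIdeal_eq_bot, Ideal.mem_bot] at hP'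
    have hmem : m t ∈ Set.range i := by
      rw [hrange, ← specializes_iff_mem_closure]
      have := hspec.map m.continuous
      rwa [← Scheme.Hom.comp_apply, hξm] at this
    obtain ⟨w, hw⟩ := hmem
    refine ⟨w, ?_, ?_⟩
    · show pullback.snd p q (i w) = o
      rw [hw, ← Scheme.Hom.comp_apply, pullback.lift_snd]
      show (Spec.map evγ ≫ Spec.map _) (closedPoint (Γ'.residueField γ)) = o
      rw [← Spec.map_comp]
      have he2 : (CommRingCat.ofHom (MvPolynomial.map ρ : MvPolynomial ι k →+* MvPolynomial ι Γ(Γ', V)) ≫ evγ :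
          R ⟶ Γ'.residueField γ) = eR ≫ CommRingCat.ofHom (res.comp ρ) := by
        ext1
        refine MvPolynomial.ringHom_ext (fun c => ?_) (fun i' => ?_)
        · show evγ₀ (MvPolynomial.map ρ (MvPolynomial.C c)) = res (ρ (eval₂Hom (RingHom.id k) (fun _ : ι => (0 : k)) (MvPolynomial.C c)))
          simp [evγ₀]
        · show evγ₀ (MvPolynomial.map ρ (MvPolynomial.X i')) = res (ρ (eval₂Hom (RingHom.id k) (fun _ : ι => (0 : k)) (MvPolynomial.X i')))
          simp [evγ₀]
      rw [he2, Spec.map_comp, Scheme.Hom.comp_apply]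
      congr 1
      exact Subsingleton.elim _ _
    · rw [hw, ← Scheme.Hom.comp_apply, pullback.lift_fst]
      show (Spec.map evγ ≫ Spec.map _ ≫ hV.fromSpec) (closedPoint (Γ'.residueField γ)) = γ
      rw [← Category.assoc, ← Spec.map_comp]
      have he3 : (CommRingCat.ofHom (MvPolynomial.C : Γ(Γ', V) →+* MvPolynomial ι Γ(Γ', V)) ≫ evγ :
          Γ(Γ', V) ⟶ Γ'.residueField γ) = Γ'.presheaf.germ V γ hγV ≫ Γ'.residue γ := by
        ext1
        exact RingHom.ext fun c => eval₂Hom_C _ _ c
      rw [he3, Spec.map_comp, Category.assoc]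
      show (Spec.map (Γ'.residue γ) ≫ hV.fromSpecStalk hγV) (closedPoint (Γ'.residueField γ)) = γ
      rw [hV.fromSpecStalk_eq_fromSpecStalk hγV]
      exact Scheme.fromSpecResidueField_apply γ _
  -- at most one connected component
  letI algB : Algebra (Spec R).functionField I.functionField :=
    (CohIII.stalkToFunctionField h (genericPoint (Spec R)) hdom).toAlgebra
  let ψ₀ : I.presheaf.stalk (e (closedPoint M)) ⟶ CommRingCat.of M := Scheme.stalkClosedPointTo e
  let ψ : I.functionField →+* M := (I.presheaf.stalkSpecializes (specializes_of_eq hee) ≫ ψ₀).hom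
  let θ : (Spec R).functionField →+* M := ψ.comp (algebraMap (Spec R).functionField I.functionField)
  have hψ : ∀ r : R, θ ((Spec R).presheaf.germ ⊤ (genericPoint (Spec R)) trivial ((Scheme.ΓSpecIso R).inv r)) = ev r := by
    intro r
    have hcat : (Spec R).presheaf.germ ⊤ (genericPoint (Spec R)) (Opens.mem_top _) ≫
        ((Spec R).presheaf.stalkSpecializes hdom ≫ h.stalkMap (genericPoint I)) ≫
          I.presheaf.stalkSpecializes (specializes_of_eq hee) ≫ Scheme.stalkClosedPointTo e =
        h.app ⊤ ≫ I.presheaf.germ (h ⁻¹ᵁ ⊤) (e (closedPoint M)) (Opens.mem_top _) ≫ Scheme.stalkClosedPointTo e := by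
      rw [Category.assoc, TopCat.Presheaf.germ_stalkSpecializes_assoc, Scheme.Hom.germ_stalkMap_assoc,
        TopCat.Presheaf.germ_stalkSpecializes_assoc]
    refine (ConcreteCategory.congr_hom hcat ((Scheme.ΓSpecIso R).inv r)).trans ?_
    rw [← value_Spec_map ev r]
    refine (value_app e h ⊤ (Opens.mem_top _) ((Scheme.ΓSpecIso R).inv r)).trans ?_
    rw [value_congr heh]
  have hone : Field.finSepDegree (Spec R).functionField ↥(algebraicClosure (Spec R).functionField I.functionField) = 1 := by
    haveI : IsPurelyInseparable (Spec R).functionField ↥(algebraicClosure (Spec R).functionField I.functionField) := by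
      refine isPurelyInseparable_iff.2 fun c => ⟨?_, fun hs => ?_⟩
      · exact ((isAlgebraic_algHom_iff (algebraicClosure (Spec R).functionField I.functionField).val
          Subtype.val_injective).1 (mem_algebraicClosure_iff.1 c.2)).isIntegral
      have hs' : IsSeparable (Spec R).functionField (c : I.functionField) :=
        IsSeparable.map (f := (algebraicClosure (Spec R).functionField I.functionField).val)
          (hf := Subtype.val_injective) hs
      have hθ : θ.fieldRange = adj (φ.comp (baseHom p)).fieldRange (Set.range a) := by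
        rw [fieldRange_functionField R θ, funext hψ]
        refine le_antisymm (Subfield.closure_le.2 ?_) (adj_le_iff.2 ⟨?_, ?_⟩)
        · rintro _ ⟨r, rfl⟩
          show eval₂Hom (φ.comp (baseHom p)) a (r : MvPolynomial ι k) ∈ _
          induction (r : MvPolynomial ι k) using MvPolynomial.induction_on with
          | C c => rw [eval₂Hom_C]; exact le_adj _ _ ⟨c, rfl⟩
          | add P Q hP hQ => rw [map_add]; exact add_mem hP hQ
          | mul_X P i' hP => rw [map_mul, eval₂Hom_X']; exact mul_mem hP (subset_adj _ _ ⟨i', rfl⟩)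
        · rintro _ ⟨c, rfl⟩
          exact Subfield.subset_closure ⟨MvPolynomial.C c, eval₂_C _ _ c⟩
        · rintro _ ⟨i', rfl⟩
          exact Subfield.subset_closure ⟨MvPolynomial.X i', eval₂_X _ _ i'⟩
      let K₀ : Subfield I.functionField := (algebraMap (Spec R).functionField I.functionField).fieldRange
      have hK₀ : K₀.map ψ = θ.fieldRange := RingHom.map_fieldRange ψ _
      have hs₀ : IsSeparable K₀ (c : I.functionField) := by
        letI : Algebra (Spec R).functionField K₀ :=
          (algebraMap (Spec R).functionField I.functionField).rangeRestrictField.toAlgebra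
        haveI : IsScalarTower (Spec R).functionField K₀ I.functionField :=
          IsScalarTower.of_algebraMap_eq fun _ => rfl
        exact hs'.tower_top K₀
      have h1 : IsSeparable (adj (φ.comp (baseHom p)).fieldRange (Set.range a)) (ψ (c : I.functionField)) := by
        have := isSeparable_map ψ hs₀
        rwa [hK₀, hθ] at this
      have h2 : ψ (c : I.functionField) ∈ θ.fieldRange := by rw [hθ]; exact hsc _ h1
      obtain ⟨f, hf⟩ := h2
      exact ⟨f, Subtype.ext (ψ.injective hf)⟩
    exact IsPurelyInseparable.finSepDegree_eq_one _ _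
  haveI : IsIntegrallyClosed R := inferInstanceAs (IsIntegrallyClosed (MvPolynomial ι k))
  haveI := Groth.L16.Connected.isIntegrallyClosed_stalk_Spec R o
  haveI : IsDomain ((Spec R).presheaf.stalk o) := inferInstance
  obtain ⟨hfin, hcard⟩ := Groth.Agent.S4484.result h hdom rfl 1 one_pos hone o
    (Groth.L16.Connected.isGeomUnibranch_of_normal (S := (Spec R).presheaf.stalk o)).1
  have hne : Nonempty ↥(h.fiber o) := by
    have hcl : IsClosed (Set.range h) := h.isClosedMap.isClosed_range
    have hall : Set.range h = Set.univ := by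
      rw [← Set.univ_subset_iff]
      calc Set.univ = closure {genericPoint (Spec R)} := (genericPoint_spec (Spec R)).symm
        _ ⊆ Set.range h := hcl.closure_subset_iff.2 (Set.singleton_subset_iff.2 ⟨genericPoint I, hhgen⟩)
    obtain ⟨w, hw⟩ := hall.ge (Set.mem_univ o)
    exact ⟨(h.fiberHomeo o).symm ⟨w, hw⟩⟩
  haveI : PreconnectedSpace ↥(h.fiber o) := by
    haveI := hfin
    haveI : Subsingleton (_root_.ConnectedComponents ↥(h.fiber o)) :=
      (Finite.card_le_one_iff_subsingleton).1 hcard
    refine ⟨?_⟩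
    obtain ⟨w⟩ := hne
    rw [← Set.eq_univ_of_forall (s := connectedComponent w) fun w' => by
      rw [← ConnectedComponents.coe_eq_coe.1 (Subsingleton.elim
        (w' : _root_.ConnectedComponents ↥(h.fiber o)) w)]
      exact mem_connectedComponent]
    exact isPreconnected_connectedComponent
  haveI : ConnectedSpace ↥(h.fiber o) := ⟨hne⟩
  have himage : (W₀ : Set Γ')ᶜ = Set.range (h.fiberι o ≫ i ≫ pullback.fst p q) := by
    ext γ
    constructor
    · intro hγ
      obtain ⟨w, hw, hwγ⟩ := hsup γ hγ
      refine ⟨(h.fiberHomeo o).symm ⟨w, hw⟩, ?_⟩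
      rw [Scheme.Hom.comp_apply, Scheme.Hom.comp_apply, Scheme.Hom.fiberι_fiberHomeo_symm]
      exact hwγ
    · rintro ⟨w, rfl⟩
      exact hsub (h.fiberι o w) ((Scheme.Hom.range_fiberι h o).le ⟨w, rfl⟩)
  rw [himage]
  exact isConnected_range (Scheme.Hom.continuous _)

end Groth.L16.Hyper
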