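import Mathlib.AlgebraicGeometry.ProjectiveSpectrum.Basic

/-!
Quotients of two forms of the same degree as functions on the projective spectrum.
-/

set_option autoImplicit false
set_option backward.isDefEq.respectTransparency false
set_option backward.isDefEq.respectTransparency.types false

universe u

open CategoryTheory AlgebraicGeometry TopologicalSpace Opposite

namespace Groth.L16.Hyper

variable {σ : Type*} {A : Type u} [CommRing A] [SetLike σ A] [AddSubgroupClass σ A]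
variable (𝒜 : ℕ → σ) [GradedRing 𝒜] {d : ℕ}

/-- `g / f` on the open where `f` does not vanish. -/
noncomputable def frac (g f : 𝒜 d) : Γ(Proj 𝒜, Proj.basicOpen 𝒜 f.1) :=
  Proj.awayToSection 𝒜 f.1 (HomogeneousLocalization.Away.mk 𝒜 f.2 1 g.1 (by simp))

/-- The value in the localisation at a point. -/
noncomputable def fracVal (y : Proj 𝒜) (z : (Proj 𝒜).presheaf.stalk y) :
    Localization y.asHomogeneousIdeal.toIdeal.primeCompl :=
  (Proj.stalkIso' 𝒜 y z).val

theorem fracVal_injective (y : Proj 𝒜) : Function.Injective (fracVal 𝒜 y) := fun _ _ h =>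
  (Proj.stalkIso' 𝒜 y).injective (HomogeneousLocalization.val_injective _ h)

theorem fracVal_germ (g f : 𝒜 d) (y : Proj 𝒜) (hy : y ∈ Proj.basicOpen 𝒜 f.1) :
    fracVal 𝒜 y ((Proj 𝒜).presheaf.germ _ y hy (frac 𝒜 g f)) =
      Localization.mk g.1 (⟨f.1 ^ 1, fun h => hy (y.isPrime.mem_of_pow_mem 1 h)⟩ : y.asHomogeneousIdeal.toIdeal.primeCompl) := by
  unfold fracVal
  erw [Proj.stalkIso'_germ]
  rfl

theorem germ_frac_mul (g f h : 𝒜 d) (y : Proj 𝒜) (hf : y ∈ Proj.basicOpen 𝒜 f.1)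
    (hh : y ∈ Proj.basicOpen 𝒜 h.1) :
    (Proj 𝒜).presheaf.germ _ y hf (frac 𝒜 g f) * (Proj 𝒜).presheaf.germ _ y hh (frac 𝒜 f h) =
      (Proj 𝒜).presheaf.germ _ y hh (frac 𝒜 g h) := by
  refine fracVal_injective 𝒜 y ?_
  have hm : ∀ a b, fracVal 𝒜 y (a * b) = fracVal 𝒜 y a * fracVal 𝒜 y b := fun a b => by
    unfold fracVal; rw [map_mul, HomogeneousLocalization.val_mul]
  rw [hm, fracVal_germ, fracVal_germ, fracVal_germ, Localization.mk_mul, Localization.mk_eq_mk_iff,
    Localization.r_iff_exists]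
  exact ⟨1, by simp only [Submonoid.coe_one, Submonoid.coe_mul, one_mul, pow_one]; ring⟩

theorem germ_frac_self (f : 𝒜 d) (y : Proj 𝒜) (hf : y ∈ Proj.basicOpen 𝒜 f.1) :
    (Proj 𝒜).presheaf.germ _ y hf (frac 𝒜 f f) = 1 := by
  refine fracVal_injective 𝒜 y ?_
  rw [fracVal_germ]
  unfold fracVal
  rw [map_one, HomogeneousLocalization.val_one, ← Localization.mk_one, Localization.mk_eq_mk_iff,
    Localization.r_iff_exists]
  exact ⟨1, by simp⟩

theorem mem_basicOpen_of_frac (g f : 𝒜 d) (y : Proj 𝒜) (hf : y ∈ Proj.basicOpen 𝒜 f.1)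
    (h : y ∈ (Proj 𝒜).basicOpen (frac 𝒜 g f)) : y ∈ Proj.basicOpen 𝒜 g.1 := by
  rw [Scheme.mem_basicOpen _ _ _ hf] at h
  intro hg
  have h2 : IsUnit (fracVal 𝒜 y ((Proj 𝒜).presheaf.germ _ y hf (frac 𝒜 g f))) := by
    unfold fracVal
    exact (HomogeneousLocalization.isUnit_iff_isUnit_val (𝒜 := 𝒜) y.asHomogeneousIdeal.toIdeal _).2 (h.map (Proj.stalkIso' 𝒜 y))
  rw [fracVal_germ, Localization.mk_eq_mk', IsLocalization.AtPrime.isUnit_mk'_iff] at h2
  exact h2 hg

end Groth.L16.Hyper
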