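import Groth.Agent.L16.Hyperplane.GenericLine
import Mathlib.RingTheory.AlgebraicIndependent.Transcendental

/-!
The function field of the universal hyperplane section: a field `M ⊇ L` with elements `a i`
satisfying one generic affine relation, in which `k(a)` is separably closed.
-/

set_option autoImplicit false
set_option maxHeartbeats 400000

universe u

open MvPolynomial

namespace Groth.L16.Hyper

variable {k L : Type u} [Field k] [Field L] [Algebra k L] {ι : Type} [Fintype ι] [DecidableEq ι]

/-- The substitution solving the relation `y = ∑ a i * x i` for `a j`, where `x j = 1`. -/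
noncomputable def solve (j : ι) (x : ι → L) (y : L) : MvPolynomial ι L →ₐ[L] MvPolynomial ι L :=
  MvPolynomial.aeval fun i => if i = j then C y - ∑ l ∈ Finset.univ.erase j, C (x l) * X l else X i

theorem solve_comp {j l : ι} {x u : ι → L} {y z : L} (hj : x j = 1) (hxu : ∀ i, x i = x l * u i)
    (hyz : y = x l * z) : (solve l u z).comp (solve j x y) = solve l u z := by
  ext1 i
  rw [AlgHom.comp_apply]
  by_cases hij : i = j
  · subst hij
    simp only [solve, aeval_X]
    simp only [if_true]
    simp only [map_sub, map_sum, map_mul, aeval_C, aeval_X, MvPolynomial.algebraMap_eq]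
    by_cases hli : l = i
    · subst hli
      rw [if_pos rfl, show y = z by rw [hyz, hj, one_mul]]
      congr 1
      refine Finset.sum_congr rfl fun m hm => ?_
      rw [if_neg (Finset.ne_of_mem_erase hm), show x m = u m by rw [hxu, hj, one_mul]]
    · rw [if_neg (Ne.symm hli)]
      have hlm : l ∈ Finset.univ.erase i := Finset.mem_erase.2 ⟨hli, Finset.mem_univ _⟩
      have him : i ∈ Finset.univ.erase l := Finset.mem_erase.2 ⟨Ne.symm hli, Finset.mem_univ _⟩
      rw [← Finset.add_sum_erase _ _ hlm, if_pos rfl, ← Finset.add_sum_erase _ _ him]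
      have hsum : (∑ m ∈ (Finset.univ.erase i).erase l, C (x m) *
          (if m = l then C z - (C (u i) * X i + ∑ q ∈ (Finset.univ.erase l).erase i, C (u q) * X q) else X m) :
            MvPolynomial ι L) = C (x l) * ∑ q ∈ (Finset.univ.erase l).erase i, C (u q) * X q := by
        rw [Finset.erase_right_comm, Finset.mul_sum]
        refine Finset.sum_congr rfl fun m hm => ?_
        rw [if_neg (Finset.ne_of_mem_erase (Finset.mem_of_mem_erase hm)), hxu m, map_mul, mul_assoc]
      rw [hsum, hyz, map_mul]
      have h1 : (C (x l) * C (u i) : MvPolynomial ι L) = 1 := by rw [← map_mul, ← hxu, hj, map_one]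
      linear_combination (X i : MvPolynomial ι L) * h1
  · simp only [solve, aeval_X]
    rw [if_neg hij, aeval_X]

theorem exists_free (σ : Type) (L : Type u) [Field L] :
    ∃ (M : Type u) (_ : Field M) (φ : L →+* M) (X' : σ → M), Function.Injective (eval₂Hom φ X') := by
  let R := MvPolynomial σ L
  refine ⟨FractionRing R, inferInstance, (algebraMap R (FractionRing R)).comp MvPolynomial.C,
    fun o => algebraMap R (FractionRing R) (MvPolynomial.X o), ?_⟩
  have e : eval₂Hom ((algebraMap R (FractionRing R)).comp MvPolynomial.C)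
      (fun o => algebraMap R (FractionRing R) (MvPolynomial.X o)) = algebraMap R (FractionRing R) :=
    MvPolynomial.ringHom_ext (fun c => by simp) (fun o => by simp)
  rw [e]
  exact IsFractionRing.injective R (FractionRing R)

theorem exists_generic_field (hk : ∀ e : L, IsSeparable k e → e ∈ (algebraMap k L).range) {j i₀ : ι}
    (hij : i₀ ≠ j) (x : ι → L) (y : L) (hy : Transcendental k y)
    (hx : Transcendental (IntermediateField.adjoin k ({y} : Set L)) (x i₀)) :
    ∃ (M : Type u) (_ : Field M) (φ : L →+* M) (a : ι → M),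
      (∀ P : MvPolynomial ι L, MvPolynomial.eval₂ φ a P = MvPolynomial.eval₂ φ a (solve j x y P)) ∧
      (∀ P : MvPolynomial ι L, MvPolynomial.eval₂ φ a P = 0 → solve j x y P = 0) ∧
      Function.Injective (MvPolynomial.eval₂Hom (φ.comp (algebraMap k L)) a) ∧
      SepClosedIn (adj (φ.comp (algebraMap k L)).fieldRange (Set.range a)) (adj φ.fieldRange (Set.range a)) := by
  obtain ⟨M, hM, φ, X', hinj⟩ := exists_free (Option ι) L
  let a : ι → M := fun i =>
    if i = j then φ y - ∑ l ∈ Finset.univ.erase j, φ (x l) * X' (some l) else X' (some i)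
  have hev : ∀ Q : MvPolynomial ι L,
      eval₂ φ a Q = eval₂Hom φ X' (rename Option.some (solve j x y Q)) := by
    intro Q
    let θ : MvPolynomial ι L →+* M :=
      (eval₂Hom φ X').comp ((rename Option.some).toRingHom.comp (solve j x y).toRingHom)
    have e : eval₂Hom φ a = θ := by
      refine MvPolynomial.ringHom_ext (fun c => ?_) (fun i => ?_)
      · simp [θ, solve]
      · simp only [θ, coe_eval₂Hom, eval₂_X, RingHom.comp_apply, AlgHom.toRingHom_eq_coe, RingHom.coe_coe, solve, aeval_X]
        by_cases h : i = j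
        · simp [a, h, eval₂_sum, Finset.sum_erase_eq_sub]
        · simp [a, h]
    exact RingHom.congr_fun e Q
  have hker : ∀ Q : MvPolynomial ι L, eval₂ φ a Q = 0 → solve j x y Q = 0 := fun Q hQ =>
    rename_injective _ (Option.some_injective ι) (hinj (by rw [← hev, hQ, map_zero, map_zero]))
  have hidem : ∀ Q : MvPolynomial ι L, eval₂ φ a Q = eval₂ φ a (solve j x y Q) := by
    intro Q
    let θ₁ : MvPolynomial ι L →+* M := eval₂Hom φ a
    have e : θ₁ = θ₁.comp (solve j x y).toRingHom := by
      refine MvPolynomial.ringHom_ext (fun c => ?_) (fun i => ?_)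
      · simp [θ₁, solve]
      · simp only [θ₁, RingHom.comp_apply, coe_eval₂Hom, eval₂_X, AlgHom.toRingHom_eq_coe, RingHom.coe_coe, solve, aeval_X]
        by_cases h : i = j
        · subst h
          rw [if_pos rfl, eval₂_sub, eval₂_C, eval₂_sum]
          simp only [a, if_pos]
          refine congrArg (φ y - ·) (Finset.sum_congr rfl fun l hl => ?_)
          rw [eval₂_mul, eval₂_C, eval₂_X, if_neg (Finset.ne_of_mem_erase hl)]
        · rw [if_neg h, eval₂_X]
    exact RingHom.congr_fun e Q
  -- the ambient subfields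
  let k₀ : Subfield M := (φ.comp (algebraMap k L)).fieldRange
  let L₀ : Subfield M := φ.fieldRange
  have hind : AlgebraicIndependent L₀ X' := by
    letI : Algebra L M := φ.toAlgebra
    have h0 : AlgebraicIndependent L X' := hinj
    letI : Algebra L L₀ := φ.rangeRestrictField.toAlgebra
    haveI : IsScalarTower L L₀ M := IsScalarTower.of_algebraMap_eq fun _ => rfl
    haveI : Algebra.IsAlgebraic L L₀ := ⟨fun z => by
      obtain ⟨c, hc⟩ := φ.rangeRestrictField_bijective.2 z
      rw [← hc]; exact isAlgebraic_algebraMap c⟩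
    exact h0.extendScalars L₀
  have htr : ∀ (o : Option ι) (S : Set (Option ι)), o ∉ S → Transcendental (adj L₀ (X' '' S)) (X' o) := by
    intro o S ho
    rw [← adjoin_toSubfield]
    exact IntermediateField.transcendental_adjoin_iff.2 (hind.transcendental_adjoin ho)
  -- transfer of the hypotheses
  have hk₀ : SepClosedIn k₀ L₀ := by
    refine ⟨fun z ⟨c, hc⟩ => ⟨algebraMap k L c, hc⟩, ?_⟩
    rintro _ ⟨e, rfl⟩ hs
    have hmap : k₀ = ((algebraMap k L).fieldRange).map φ := (RingHom.map_fieldRange φ (algebraMap k L)).symm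
    have h0 : IsSeparable (algebraMap k L).fieldRange e := isSeparable_of_map φ (hmap ▸ hs)
    obtain ⟨c, hc⟩ := hk e (by
      letI : Algebra k (algebraMap k L).fieldRange := (algebraMap k L).rangeRestrictField.toAlgebra
      haveI : IsScalarTower k (algebraMap k L).fieldRange L := IsScalarTower.of_algebraMap_eq fun _ => rfl
      haveI : Algebra.IsSeparable k (algebraMap k L).fieldRange := ⟨fun z => by
        obtain ⟨c, hc⟩ := (algebraMap k L).rangeRestrictField_bijective.2 z
        rw [← hc]
        exact isSeparable_algebraMap c⟩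
      exact IsSeparable.of_algebra_isSeparable_of_isSeparable k h0)
    exact ⟨c, by rw [RingHom.comp_apply, hc]⟩
  have hyx : Transcendental k₀ (φ (x i₀)) ∧ Transcendental (adj k₀ {φ (x i₀)}) (φ y) := by
    letI : Algebra k M := (φ.comp (algebraMap k L)).toAlgebra
    let φ' : L →ₐ[k] M := { φ with commutes' := fun _ => rfl }
    letI : Algebra k k₀ := (φ.comp (algebraMap k L)).rangeRestrictField.toAlgebra
    haveI : IsScalarTower k k₀ M := IsScalarTower.of_algebraMap_eq fun _ => rfl
    have hy₀ : Transcendental k₀ (φ y) := by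
      intro halg
      haveI : Algebra.IsAlgebraic k k₀ := ⟨fun z => by
        obtain ⟨c, hc⟩ := (φ.comp (algebraMap k L)).rangeRestrictField_bijective.2 z
        rw [← hc]; exact isAlgebraic_algebraMap c⟩
      exact hy ((isAlgebraic_algHom_iff φ' φ.injective).1 (IsAlgebraic.restrictScalars k halg))
    have hx₀ : Transcendental (adj k₀ {φ y}) (φ (x i₀)) := by
      let F : IntermediateField k L := IntermediateField.adjoin k {y}
      have hF : F.toSubfield.map φ = adj k₀ {φ y} := by
        rw [show F.toSubfield = Subfield.closure (Set.range (algebraMap k L) ∪ {y}) from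
          IntermediateField.adjoin_toSubfield k {y}, RingHom.map_field_closure, Set.image_union, Set.image_singleton,
          ← Set.range_comp]
        rfl
      intro halg
      refine hx ?_
      obtain ⟨P, hP0, hP⟩ := halg
      let g : F.toSubfield →+* (adj k₀ {φ y} : Subfield M) :=
        (φ.comp F.toSubfield.subtype).codRestrict _ fun z => hF ▸ Subfield.mem_map.2 ⟨z, z.2, rfl⟩
      have hg : Function.Surjective g := fun z => by
        obtain ⟨w, hw, hwz⟩ := Subfield.mem_map.1 (hF.symm ▸ z.2 : (z : M) ∈ F.toSubfield.map φ)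
        exact ⟨⟨w, hw⟩, Subtype.ext hwz⟩
      obtain ⟨Q, rfl⟩ := Polynomial.map_surjective g hg P
      refine ⟨Q, fun h0 => hP0 (by rw [h0, Polynomial.map_zero]), φ.injective ?_⟩
      rw [map_zero, Polynomial.aeval_def, Polynomial.hom_eval₂]
      rw [Polynomial.aeval_def, Polynomial.eval₂_map] at hP
      exact hP
    exact ⟨transcendental_mono (le_adj _ _) hx₀, transcendental_exchange hy₀ hx₀⟩
  -- the lemma on hyperplanes
  let S : Finset ι := (Finset.univ.erase j).erase i₀
  have himg : ∀ T : Set ι, (fun i => X' (some i)) '' T = X' '' (Option.some '' T) := fun T => by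
    rw [Set.image_image]
  have hv : ∀ i ∈ S, Transcendental (adj L₀ ((fun i => X' (some i)) '' ((S : Set ι) \ {i}))) (X' (some i)) := fun i _ => by
    rw [himg]; exact htr _ _ (by simp)
  have hs : Transcendental (adj L₀ ((fun i => X' (some i)) '' (S : Set ι))) (X' (some i₀)) := by
    rw [himg]; exact htr _ _ (by simp [S])
  have hs' : Transcendental (adj (adj L₀ ((fun i => X' (some i)) '' (S : Set ι))) {X' (some i₀)}) (X' none) := by
    rw [adj_adj, himg, ← Set.image_singleton, ← Set.image_union]; exact htr _ _ (by simp)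
  have hcS : ∀ i ∈ S, φ (x i) ∈ L₀ := fun i _ => ⟨x i, rfl⟩
  have hmain := sepClosedIn_hyperplane S (fun i => X' (some i)) (fun i => φ (x i)) hk₀ ⟨x i₀, rfl⟩ ⟨y, rfl⟩ hcS
    hyx.1 hyx.2 hv hs hs'
  have haj : a j = (φ y - ∑ i ∈ S, X' (some i) * φ (x i)) - X' (some i₀) * φ (x i₀) := by
    simp only [a, if_pos]
    rw [← Finset.sum_erase_add _ _ (Finset.mem_erase.2 ⟨hij, Finset.mem_univ i₀⟩)]
    rw [Finset.sum_congr rfl (fun l _ => mul_comm (φ (x l)) (X' (some l))), mul_comm (φ (x i₀)), sub_sub]
  rw [← haj] at hmain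
  have hai : ∀ i ≠ j, a i = X' (some i) := fun i h => if_neg h
  have hrange : Set.range a = (fun i => X' (some i)) '' (S : Set ι) ∪ {X' (some i₀), a j} := by
    ext z
    constructor
    · rintro ⟨i, rfl⟩
      by_cases h : i = j
      · right; right; rw [h]; rfl
      by_cases h' : i = i₀
      · right; left; rw [hai i h, h']
      · left; exact ⟨i, by simp [S, h, h'], (hai i h).symm⟩
    · rintro (⟨i, hi, rfl⟩ | rfl | rfl)
      · exact ⟨i, hai i (Finset.ne_of_mem_erase (Finset.mem_of_mem_erase hi))⟩
      · exact ⟨i₀, hai i₀ hij⟩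
      · exact ⟨j, rfl⟩
  have hkeq : adj k₀ (Set.range a) = adj (adj k₀ ((fun i => X' (some i)) '' (S : Set ι))) {X' (some i₀), a j} := by
    rw [adj_adj, hrange]
  have hLle : adj L₀ (Set.range a) ≤ adj (adj L₀ ((fun i => X' (some i)) '' (S : Set ι))) {X' (some i₀)} := by
    rw [hrange, adj_adj]
    refine adj_le_iff.2 ⟨le_adj _ _, Set.union_subset ?_ (Set.insert_subset_iff.2 ⟨?_, Set.singleton_subset_iff.2 ?_⟩)⟩
    · exact Set.subset_union_left.trans (subset_adj _ _)
    · exact subset_adj _ _ (Or.inr rfl)
    · rw [haj]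
      refine sub_mem (sub_mem (le_adj _ _ ⟨y, rfl⟩) (Subfield.sum_mem _ fun i hi => mul_mem
        (subset_adj _ _ (Or.inl ⟨i, hi, rfl⟩)) (le_adj _ _ ⟨x i, rfl⟩))) (mul_mem (subset_adj _ _ (Or.inr rfl))
        (le_adj _ _ ⟨x i₀, rfl⟩))
  refine ⟨M, hM, φ, a, hidem, hker, ?_, ?_⟩
  · -- injectivity over the ground field
    let v : ι → M := fun i => X' (some i)
    have hyt := transcendental_shift_sum S v (fun i => φ (x i)) (adj_le_iff.2 ⟨hk₀.1, Set.singleton_subset_iff.2
      ⟨x i₀, rfl⟩⟩) (⟨y, rfl⟩ : φ y ∈ L₀) hcS hyx.2 hv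
    have hk' : adj k₀ (v '' (S : Set ι)) ≤ adj L₀ (v '' (S : Set ι)) := adj_mono hk₀.1 subset_rfl
    have hone : ∀ K : Subfield M, adj K ({1} : Set M) = K := fun K =>
      le_antisymm (adj_le_iff.2 ⟨le_rfl, Set.singleton_subset_iff.2 (one_mem _)⟩) (le_adj _ _)
    have haj' : Transcendental (adj (adj k₀ (v '' (S : Set ι))) {X' (some i₀)}) (a j) := by
      have h1 := transcendental_shift (x := 1) (c := φ (x i₀)) (k := adj k₀ (v '' (S : Set ι)))
        (L := adj L₀ (v '' (S : Set ι))) (by rw [hone]; exact hk')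
        (sub_mem (le_adj _ _ ⟨y, rfl⟩) (Subfield.sum_mem _ fun i hi => mul_mem (subset_adj _ _ ⟨i, hi, rfl⟩)
          (le_adj _ _ ⟨x i, rfl⟩)))
        (le_adj _ _ ⟨x i₀, rfl⟩) (by rw [hone]; exact transcendental_mono (le_adj _ _) hyt) hs
      rw [hone] at h1
      rwa [haj]
    letI : Algebra k M := (φ.comp (algebraMap k L)).toAlgebra
    letI : Algebra k L₀ := (φ.rangeRestrictField.comp (algebraMap k L)).toAlgebra
    haveI : IsScalarTower k L₀ M := IsScalarTower.of_algebraMap_eq fun _ => rfl
    show AlgebraicIndependent k a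
    refine (AlgebraicIndependent.iff_transcendental_adjoin_image j).2 ⟨?_, ?_⟩
    · have h1 := (hind.restrictScalars (algebraMap k L₀).injective).comp (fun i : {i // i ≠ j} => some i.1)
        (fun p q h => Subtype.ext (Option.some_injective ι h))
      convert h1 using 1
      ext i; exact hai i.1 i.2
    · refine IntermediateField.transcendental_adjoin_iff.1 ?_
      intro halg
      refine haj' ?_
      let F := IntermediateField.adjoin k (a '' {j}ᶜ)
      have hle : F.toSubfield ≤ adj (adj k₀ (v '' (S : Set ι))) {X' (some i₀)} := by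
        rw [show F.toSubfield = Subfield.closure (Set.range (algebraMap k M) ∪ a '' {j}ᶜ) from
          IntermediateField.adjoin_toSubfield k (a '' {j}ᶜ), Subfield.closure_le]
        rintro z (⟨c, rfl⟩ | ⟨i, hi, rfl⟩)
        · exact le_adj _ _ (le_adj _ _ ⟨c, rfl⟩)
        · rw [hai i hi]
          by_cases h' : i = i₀
          · exact subset_adj _ _ (by rw [h']; rfl)
          · exact le_adj _ _ (subset_adj _ _ ⟨i, Finset.mem_erase.2 ⟨h', Finset.mem_erase.2 ⟨hi, Finset.mem_univ i⟩⟩, rfl⟩)
      exact isAlgebraic_mono (K := F.toSubfield) hle halg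
  · show SepClosedIn (adj k₀ (Set.range a)) (adj L₀ (Set.range a))
    rw [hkeq]
    exact hmain.mono (by rw [← hkeq]; exact adj_mono hk₀.1 subset_rfl) hLle

end Groth.L16.Hyper

namespace Groth.L16.Hyper

variable {k L : Type u} [Field k] [Field L] [Algebra k L] {ι : Type} [Fintype ι] [DecidableEq ι]

/-- The function field of the universal section: the ground extension is separably closed in it. -/
theorem exists_universal_field (hk : ∀ e : L, IsSeparable k e → e ∈ (algebraMap k L).range) {j i₀ : ι}
    (hij : i₀ ≠ j) (x : ι → L) (y : L) (hy : Transcendental k y)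
    (hx : Transcendental (IntermediateField.adjoin k ({y} : Set L)) (x i₀)) :
    ∃ (M : Type u) (_ : Field M) (φ : L →+* M) (a : ι → M),
      (∀ P : MvPolynomial ι L, MvPolynomial.eval₂ φ a P = MvPolynomial.eval₂ φ a (solve j x y P)) ∧
      (∀ P : MvPolynomial ι L, MvPolynomial.eval₂ φ a P = 0 → solve j x y P = 0) ∧
      Function.Injective (MvPolynomial.eval₂Hom (φ.comp (algebraMap k L)) a) ∧
      ∀ z : M, IsSeparable (adj (φ.comp (algebraMap k L)).fieldRange (Set.range a)) z →
        z ∈ adj (φ.comp (algebraMap k L)).fieldRange (Set.range a) := by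
  obtain ⟨M, hM, φ, a, h₁, h₂, h₃, h₄⟩ := exists_generic_field hk hij x y hy hx
  let M' : Subfield M := adj φ.fieldRange (Set.range a)
  let φ' : L →+* M' := φ.codRestrict M' fun c => le_adj _ _ ⟨c, rfl⟩
  let a' : ι → M' := fun i => ⟨a i, subset_adj _ _ ⟨i, rfl⟩⟩
  have hev : ∀ P : MvPolynomial ι L, ((MvPolynomial.eval₂ φ' a' P : M') : M) = MvPolynomial.eval₂ φ a P :=
    fun P => MvPolynomial.eval₂_comp_left M'.subtype φ' a' P
  have hev' : ∀ P : MvPolynomial ι k,
      ((MvPolynomial.eval₂ (φ'.comp (algebraMap k L)) a' P : M') : M) =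
        MvPolynomial.eval₂ (φ.comp (algebraMap k L)) a P :=
    fun P => MvPolynomial.eval₂_comp_left M'.subtype (φ'.comp (algebraMap k L)) a' P
  refine ⟨M', inferInstance, φ', a', fun P => Subtype.ext (by rw [hev, hev]; exact h₁ P),
    fun P hP => h₂ P (by rw [← hev, hP]; rfl), fun P Q hPQ => h₃ (show _ = _ from by
      rw [MvPolynomial.coe_eval₂Hom, ← hev', ← hev']; exact congrArg Subtype.val hPQ), fun z hz => ?_⟩
  have hmap : (adj (φ'.comp (algebraMap k L)).fieldRange (Set.range a')).map M'.subtype =
      adj (φ.comp (algebraMap k L)).fieldRange (Set.range a) := by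
    rw [map_adj, RingHom.map_fieldRange, ← RingHom.comp_assoc, ← Set.range_comp]
    rfl
  have hmem := h₄.2 (z : M) z.2 (hmap ▸ isSeparable_map M'.subtype hz)
  rw [← hmap] at hmem
  obtain ⟨w, hw, hwz⟩ := Subfield.mem_map.1 hmem
  exact Subtype.ext hwz ▸ hw

end Groth.L16.Hyper
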