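import Groth.Agent.L16.Hyperplane.SubfieldBasics
import Mathlib.FieldTheory.PrimitiveElement
import Mathlib.FieldTheory.SeparableClosure

/-!
Zariski's lemma: if `k` is separably closed in `L` and `x, y ∈ L` are algebraically independent
over `k`, then for `s` transcendental over `L` the field `k(s, y - s x)` is separably closed in
`L(s)`.
-/

set_option autoImplicit false
set_option maxHeartbeats 400000

universe u

open Polynomial

namespace Groth.L16.Hyper

variable {M : Type u} [Field M] {k K L : Subfield M} {v : M}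

/-- Separability witnessed by a polynomial with coefficients in the subfield. -/
theorem isSeparable_of_aeval {K' : Type u} [Field K'] [Algebra K' M] (p : K'[X]) (hp : p.Separable) {a : M}
    (h : aeval a p = 0) : IsSeparable K' a := Polynomial.Separable.of_dvd hp (minpoly.dvd K' a h)

theorem isSeparable_map {R : Type u} [Field R] (f : R →+* M) {K₀ : Subfield R} {r : R} (h : IsSeparable K₀ r) :
    IsSeparable (K₀.map f) (f r) := by
  let g : K₀ →+* K₀.map f := (f.comp K₀.subtype).codRestrict _ fun z => Subfield.mem_map.2 ⟨z, z.2, rfl⟩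
  refine isSeparable_of_aeval ((minpoly K₀ r).map g) (Polynomial.Separable.map (f := g) (p := minpoly K₀ r) h) ?_
  rw [aeval_def, eval₂_map]
  have e : (algebraMap (K₀.map f) M).comp g = f.comp (algebraMap K₀ R) := rfl
  rw [e, ← hom_eval₂, ← aeval_def, minpoly.aeval, map_zero]

theorem isSeparable_of_map {R : Type u} [Field R] (f : R →+* M) {K₀ : Subfield R} {r : R}
    (h : IsSeparable (K₀.map f) (f r)) : IsSeparable K₀ r := by
  let g : K₀ →+* K₀.map f := (f.comp K₀.subtype).codRestrict _ fun z => Subfield.mem_map.2 ⟨z, z.2, rfl⟩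
  have hg : Function.Surjective g := fun z => by
    obtain ⟨y, hy, hyz⟩ := Subfield.mem_map.1 z.2
    exact ⟨⟨y, hy⟩, Subtype.ext hyz⟩
  obtain ⟨p, hp⟩ := Polynomial.map_surjective g hg (minpoly (K₀.map f) (f r))
  refine Polynomial.Separable.of_dvd (f := p) ?_ (minpoly.dvd K₀ r ?_)
  · exact (separable_map g).1 (by rw [hp]; exact h)
  · refine f.injective ?_
    have e : (algebraMap (K₀.map f) M).comp g = f.comp (algebraMap K₀ R) := rfl
    rw [map_zero, aeval_def, hom_eval₂, ← e, ← eval₂_map, hp, ← aeval_def, minpoly.aeval]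

theorem adj_pair_eq (K : Subfield M) (a b : M) : adj (adj K {a}) {b} = adj K {a, b} := by
  rw [adj_adj]; congr 1

theorem map_adj {R : Type u} [Field R] (f : R →+* M) (K₀ : Subfield R) (S : Set R) :
    (adj K₀ S).map f = adj (K₀.map f) (f '' S) := by
  rw [adj, adj, RingHom.map_field_closure, Set.image_union]; rfl

theorem exists_primitive_finset {K' : Type u} [Field K'] [Algebra K' M] (S : Finset M)
    (hS : ∀ z ∈ S, IsSeparable K' z) :
    ∃ θ ∈ IntermediateField.adjoin K' (S : Set M), IsSeparable K' θ ∧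
      ∀ z ∈ S, z ∈ IntermediateField.adjoin K' ({θ} : Set M) := by
  haveI : Finite (S : Set M) := Finset.finite_toSet _
  haveI : FiniteDimensional K' (IntermediateField.adjoin K' (S : Set M)) :=
    IntermediateField.finiteDimensional_adjoin fun z hz => (hS z hz).isIntegral
  haveI : Algebra.IsSeparable K' (IntermediateField.adjoin K' (S : Set M)) :=
    (IntermediateField.isSeparable_adjoin_iff_isSeparable K' M).2 hS
  obtain ⟨θ, hθ⟩ := Field.exists_primitive_element K' (IntermediateField.adjoin K' (S : Set M))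
  have he : IntermediateField.adjoin K' ({(θ : M)} : Set M) = IntermediateField.adjoin K' (S : Set M) := by
    rw [← IntermediateField.lift_adjoin_simple, hθ, IntermediateField.lift_top]
  refine ⟨θ, θ.2, ?_, fun z hz => ?_⟩
  · exact IsSeparable.map (f := (IntermediateField.adjoin K' (S : Set M)).val)
      (hf := Subtype.val_injective) (Algebra.IsSeparable.isSeparable K' θ)
  · rw [he]
    exact IntermediateField.subset_adjoin K' (S : Set M) hz

theorem isSeparable_trans_closure {K' : Type u} [Field K'] [Algebra K' M] {x : M}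
    (h : IsSeparable (separableClosure K' M) x) : IsSeparable K' x :=
  IsSeparable.of_algebra_isSeparable_of_isSeparable K' h

/-- Elements of `L(v)` separable over `K(v)` lie in `N(v)` for some finite separable `N = K(θ) ⊆ L`. -/
theorem exists_theta (hKL : K ≤ L) (hv : Transcendental L v) {b : M} (hb : b ∈ adj L {v})
    (hs : IsSeparable (adj K {v}) b) : ∃ θ ∈ L, IsSeparable K θ ∧ b ∈ adj K {θ, v} := by
  classical
  let N : Subfield M := (separableClosure K M).toSubfield ⊓ L
  have hKN : K ≤ N := le_inf (fun c hc => (separableClosure K M).algebraMap_mem ⟨c, hc⟩) hKL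
  have hN : SepClosedIn N L := ⟨inf_le_right, fun x hx hsx => ⟨mem_separableClosure_iff.2
    (isSeparable_trans_closure (isSeparable_mono (E := (separableClosure K M).toSubfield) inf_le_left hsx)), hx⟩⟩
  have hbN : b ∈ adj N {v} := (hN.adj hv).2 b hb (isSeparable_mono (adj_mono hKN subset_rfl) hs)
  obtain ⟨p, q, rfl⟩ := mem_adj_simple.1 hbN
  let S : Finset M := (p.support.image fun i => (p.coeff i : M)) ∪ q.support.image fun i => (q.coeff i : M)
  have hS : ∀ z ∈ S, z ∈ N := by
    intro z hz
    rcases Finset.mem_union.1 hz with h | h <;>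
      obtain ⟨i, -, rfl⟩ := Finset.mem_image.1 h
    · exact (p.coeff i).2
    · exact (q.coeff i).2
  obtain ⟨θ, hθS, hθ, hθgen⟩ := exists_primitive_finset S fun z hz => mem_separableClosure_iff.1 (hS z hz).1
  have hθL : θ ∈ L := adj_le_iff.2 ⟨hKL, fun z hz => (hS z hz).2⟩ (mem_adj_iff.2 hθS)
  refine ⟨θ, hθL, hθ, ?_⟩
  have hS' : ∀ z ∈ S, z ∈ adj K {θ} := fun z hz => mem_adj_iff.2 (hθgen z hz)
  have hco : ∀ r : N[X], ((r = p) ∨ r = q) → ∀ i, (r.coeff i : M) ∈ adj K {θ} := by
    intro r hr i
    by_cases hi : i ∈ r.support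
    · refine hS' _ (Finset.mem_union.2 ?_)
      rcases hr with rfl | rfl
      · exact Or.inl (Finset.mem_image.2 ⟨i, hi, rfl⟩)
      · exact Or.inr (Finset.mem_image.2 ⟨i, hi, rfl⟩)
    · rw [notMem_support_iff.1 hi]; exact zero_mem _
  rw [← adj_pair_eq]
  exact div_mem (aeval_mem_adj p (hco p (Or.inl rfl))) (aeval_mem_adj q (hco q (Or.inr rfl)))

/-- A field between `K(v)` and `N(v)`, generated by `b`, is generated by its elements in `L`. -/
theorem exists_constants (hKL : K ≤ L) (hv : Transcendental L v) {b : M} (hb : b ∈ adj L {v})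
    (hs : IsSeparable (adj K {v}) b) :
    ∃ F : Subfield M, K ≤ F ∧ F ≤ L ∧ F ≤ adj K {v, b} ∧ b ∈ adj F {v} := by
  obtain ⟨θ, hθL, hθ, hbθ⟩ := exists_theta hKL hv hb hs
  set G : Subfield M := adj K {v, b}
  let F : Subfield M := G ⊓ L
  have hKG : K ≤ G := le_adj _ _
  have hG : G ≤ adj L {v} := adj_le_iff.2 ⟨hKL.trans (le_adj _ _),
    Set.insert_subset_iff.2 ⟨subset_adj _ _ rfl, Set.singleton_subset_iff.2 hb⟩⟩
  refine ⟨F, le_inf hKG hKL, inf_le_right, inf_le_left, ?_⟩
  letI : Algebra K G := (Subfield.inclusion hKG).toAlgebra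
  haveI : IsScalarTower K G M := IsScalarTower.of_algebraMap_eq fun _ => rfl
  have hint : IsIntegral G θ := hθ.isIntegral.tower_top
  set g := minpoly G θ
  have hgdvd : g ∣ (minpoly K θ).map (algebraMap K G) := minpoly.dvd _ _ (by
    rw [aeval_map_algebraMap, minpoly.aeval])
  have hgF : ∀ i, ((g.coeff i : G) : M) ∈ F := fun i => by
    have hi : IsAlgebraic K ((g.coeff i : G) : M) :=
      ((isIntegral_coeff_of_dvd (minpoly K θ) g (minpoly.monic hθ.isIntegral) (minpoly.monic hint) hgdvd i).map
        (IsScalarTower.toAlgHom K G M)).isAlgebraic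
    exact ⟨(g.coeff i).2, mem_of_isAlgebraic hv (hG (g.coeff i).2) (isAlgebraic_mono hKL hi)⟩
  set F' : Subfield M := adj F {v}
  have hF'G : F' ≤ G := adj_le_iff.2 ⟨inf_le_left, Set.singleton_subset_iff.2 (subset_adj _ _ (Set.mem_insert _ _))⟩
  let j : F' →+* G := Subfield.inclusion hF'G
  have hgl : g ∈ Polynomial.lifts j := (lifts_iff_coeff_lifts g).2 fun i =>
    ⟨⟨_, le_adj F {v} (hgF i)⟩, Subtype.ext rfl⟩
  obtain ⟨g₀, hg₀, -, hg₀m⟩ := lifts_and_degree_eq_and_monic hgl (minpoly.monic hint)
  have hg₀0 : aeval θ g₀ = 0 := by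
    have := minpoly.aeval G θ
    rw [show minpoly G θ = g₀.map j from hg₀.symm, aeval_def, eval₂_map] at this
    rw [aeval_def]; exact this
  have hbF' : b ∈ IntermediateField.adjoin F' ({θ} : Set M) := by
    refine mem_adj_iff.1 (adj_le_iff.2 ⟨?_, ?_⟩ hbθ)
    · exact (le_inf hKG hKL).trans ((le_adj F {v}).trans (le_adj F' {θ}))
    · intro z hz
      rcases hz with hz | hz
      · rw [hz]; exact subset_adj F' {θ} rfl
      · rw [Set.mem_singleton_iff] at hz
        rw [hz]; exact le_adj F' {θ} (subset_adj F {v} rfl)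
  have halg : IsAlgebraic F' θ := ⟨g₀, hg₀m.ne_zero, hg₀0⟩
  have hb2 : b ∈ (IntermediateField.adjoin F' ({θ} : Set M)).toSubalgebra := hbF'
  rw [IntermediateField.adjoin_simple_toSubalgebra_of_isAlgebraic halg,
    Algebra.adjoin_singleton_eq_range_aeval] at hb2
  obtain ⟨P, hP⟩ := hb2
  change aeval θ P = b at hP
  have hr : aeval θ (P %ₘ g₀) = b := by
    rw [← hP]; exact aeval_modByMonic_eq_self_of_root hg₀0
  have hbG : b ∈ G := subset_adj _ _ (Set.mem_insert_of_mem _ rfl)
  set d : G[X] := (P %ₘ g₀).map j - C ⟨b, hbG⟩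
  have hd0 : d = 0 := by
    by_contra hne
    have hdeg := minpoly.degree_le_of_ne_zero G θ hne (by
      rw [map_sub, aeval_C, aeval_def, eval₂_map]
      show aeval θ (P %ₘ g₀) - b = 0
      rw [hr, sub_self])
    refine absurd hdeg (not_le.2 ?_)
    refine (degree_sub_le _ _).trans_lt (max_lt ?_ ?_)
    · rw [show minpoly G θ = g₀.map j from hg₀.symm, degree_map, degree_map]
      exact degree_modByMonic_lt P hg₀m
    · exact degree_C_le.trans_lt (natDegree_pos_iff_degree_pos.1 (minpoly.natDegree_pos hint))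
  have := congrArg (fun e => ((Polynomial.coeff e 0 : G) : M)) hd0
  simp only [d, coeff_sub, coeff_map, coeff_C_zero, coeff_zero] at this
  have hb3 : (((P %ₘ g₀).coeff 0 : F') : M) - b = 0 := this
  rw [← sub_eq_zero.1 hb3]
  exact ((P %ₘ g₀).coeff 0).2

/-- Zariski's lemma on pencils. -/
theorem sepClosedIn_pencil {x y s s' : M} (hk : SepClosedIn k L) (hx : x ∈ L) (hy : y ∈ L)
    (hxt : Transcendental k x) (hyt : Transcendental (adj k {x}) y)
    (hs : Transcendental L s) (hs' : Transcendental (adj L {s}) s') :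
    SepClosedIn (adj k {s, y - s * x}) (adj L {s}) := by
  have hkL := hk.1
  have hs'L : Transcendental L s' := transcendental_mono (le_adj _ _) hs'
  have hsLs' : Transcendental (adj L {s'}) s := transcendental_exchange hs hs'
  set t := y - s * x with ht
  set t' := y - s' * x with ht'
  set F₂ := adj k {s, t}
  set k₁ := adj k {s, s'}
  set K := adj k {x, y} with hK
  have hKL : K ≤ L := adj_le_iff.2 ⟨hkL, Set.insert_subset_iff.2 ⟨hx, Set.singleton_subset_iff.2 hy⟩⟩
  have hxK : x ∈ K := subset_adj _ _ (Set.mem_insert _ _)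
  have hyK : y ∈ K := subset_adj _ _ (Set.mem_insert_of_mem _ rfl)
  have hss' : s - s' ≠ 0 := fun e => hs' (by rw [← sub_eq_zero.1 e]; exact isAlgebraic_of_mem (subset_adj _ _ rfl))
  -- transcendence degrees
  have hxk₁ : Transcendental k₁ x := by
    have := transcendental_adj_simple (adj_mono hkL subset_rfl) hs' (le_adj L {s} hx)
      (transcendental_adj_simple hkL hs hx hxt)
    rwa [adj_pair_eq] at this
  have hyk₁ : Transcendental (adj k₁ {x}) y := by
    have hkx : adj k {x} ≤ L := adj_le_iff.2 ⟨hkL, Set.singleton_subset_iff.2 hx⟩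
    have := transcendental_adj_simple (adj_mono hkx subset_rfl) hs' (le_adj L {s} hy)
      (transcendental_adj_simple hkx hs hy hyt)
    rw [adj_adj, adj_adj] at this
    rw [adj_adj]
    have e : adj (adj k₁ {x}) (∅ : Set M) = adj k ({x} ∪ ({s} ∪ {s'})) := by
      rw [adj_empty]
      show adj (adj k {s, s'}) {x} = _
      rw [adj_adj]
      congr 1
      ext z; simp only [Set.mem_union, Set.mem_insert_iff, Set.mem_singleton_iff]; tauto
    rw [adj_empty, adj_adj] at e

    rw [e]; exact this
  have htk₁ : Transcendental (adj k₁ {x}) t := by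
    have := transcendental_affine (K := adj k₁ {x}) (c := 1) (d := -(s * x)) (one_mem _)
      (neg_mem (mul_mem (le_adj _ _ (subset_adj _ _ (Set.mem_insert _ _))) (subset_adj _ _ rfl))) one_ne_zero hyk₁
    rwa [one_mul, ← sub_eq_add_neg] at this
  have hxt₁ : Transcendental (adj k₁ {t}) x := transcendental_exchange hxk₁ htk₁
  have hF₂ : F₂ ≤ adj k₁ {t} := adj_le_iff.2 ⟨(le_adj k _).trans (le_adj k₁ _),
    Set.insert_subset_iff.2 ⟨le_adj _ _ (subset_adj _ _ (Set.mem_insert _ _)),
      Set.singleton_subset_iff.2 (subset_adj _ _ rfl)⟩⟩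
  have hF₂L : F₂ ≤ adj L {s} := adj_le_iff.2 ⟨hkL.trans (le_adj _ _), Set.insert_subset_iff.2
    ⟨subset_adj _ _ rfl, Set.singleton_subset_iff.2 (sub_mem (le_adj _ _ hy)
      (mul_mem (subset_adj _ _ rfl) (le_adj _ _ hx)))⟩⟩
  refine ⟨hF₂L, fun α hα hsep => ?_⟩
  have hF₂K : F₂ ≤ adj K {s} := adj_le_iff.2 ⟨(le_adj k _).trans (le_adj K _), Set.insert_subset_iff.2
    ⟨subset_adj _ _ rfl, Set.singleton_subset_iff.2 (sub_mem (le_adj _ _ hyK)
      (mul_mem (subset_adj _ _ rfl) (le_adj _ _ hxK)))⟩⟩
  obtain ⟨F, hKF, hFL, hFG, hαF⟩ := exists_constants hKL hs hα (isSeparable_mono hF₂K hsep)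
  -- the conjugate element
  obtain ⟨p, q, hα'⟩ := mem_adj_simple.1 hαF
  let ι := Subfield.inclusion hFL
  let r : RatFunc L := algebraMap L[X] (RatFunc L) (p.map ι) / algebraMap L[X] (RatFunc L) (q.map ι)
  let σ : RatFunc L →+* M := evalTr hs
  let σ' : RatFunc L →+* M := evalTr hs'L
  have hr : σ r = α := by
    rw [hα']; show evalTr hs r = _; rw [evalTr_div, aeval_inclusion, aeval_inclusion]
  have hr' : σ' r ∈ adj F {s'} := by
    show evalTr hs'L r ∈ _
    rw [evalTr_div, aeval_inclusion, aeval_inclusion]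
    exact mem_adj_simple.2 ⟨p, q, rfl⟩
  let cR : L →+* RatFunc L := algebraMap L (RatFunc L)
  have hC : ∀ (τ : M) (hτ : Transcendental L τ) (c : L), evalTr hτ (cR c) = (c : M) := fun τ hτ c => by
    show evalTr hτ (algebraMap L (RatFunc L) c) = _
    rw [IsScalarTower.algebraMap_apply L L[X] (RatFunc L), evalTr_algebraMap, Polynomial.algebraMap_eq, aeval_C]
    rfl
  have hX : ∀ (τ : M) (hτ : Transcendental L τ), evalTr hτ (RatFunc.X : RatFunc L) = τ := fun τ hτ => by
    rw [← RatFunc.algebraMap_X, evalTr_algebraMap, aeval_X]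
  let R₀ : Subfield (RatFunc L) := (k.comap L.subtype).map cR
  let R₂ : Subfield (RatFunc L) := adj R₀ {(RatFunc.X : RatFunc L), cR ⟨y, hy⟩ - RatFunc.X * cR ⟨x, hx⟩}
  have hR₀ : ∀ (τ : M) (hτ : Transcendental L τ), R₀.map (evalTr hτ) = k := fun τ hτ => by
    ext z
    simp only [R₀, Subfield.mem_map, Subfield.mem_comap]
    constructor
    · rintro ⟨_, ⟨c, hc, rfl⟩, rfl⟩; rw [hC]; exact hc
    · exact fun hz => ⟨_, ⟨⟨z, hkL hz⟩, hz, rfl⟩, hC τ hτ _⟩
  have hR₂ : ∀ (τ : M) (hτ : Transcendental L τ), R₂.map (evalTr hτ) = adj k {τ, y - τ * x} := fun τ hτ => by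
    rw [map_adj, hR₀, Set.image_pair, hX, map_sub, map_mul, hX, hC, hC]
  have hsep' : IsSeparable (adj k {s', t'}) (σ' r) := by
    have h0 : IsSeparable R₂ r := isSeparable_of_map σ (by rw [hR₂ s hs, hr]; exact hsep)
    have := isSeparable_map σ' h0
    rwa [hR₂ s' hs'L] at this
  -- the conjugate lies in the field generated by the original element
  set E := adj k₁ {t, α}
  have hE : E ≤ adj (adj L {s}) {s'} := adj_le_iff.2 ⟨adj_le_iff.2 ⟨hkL.trans ((le_adj _ _).trans (le_adj _ _)),
    Set.insert_subset_iff.2 ⟨le_adj _ _ (subset_adj _ _ rfl), Set.singleton_subset_iff.2 (subset_adj _ _ rfl)⟩⟩,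
    Set.insert_subset_iff.2 ⟨le_adj _ _ (hF₂L (subset_adj _ _ (Set.mem_insert_of_mem _ rfl))),
      Set.singleton_subset_iff.2 (le_adj _ _ hα)⟩⟩
  have hk₁E : SepClosedIn k₁ E := by
    have := (hk.adj hs).adj hs'
    rw [adj_pair_eq] at this
    exact this.mono (le_adj _ _) hE
  have hxE : Transcendental E x := by
    have h0 : Transcendental (adj (adj k₁ {t}) {α}) x := transcendental_adj_of_isAlgebraic
      (fun z hz => by
        rw [Set.mem_singleton_iff] at hz; subst hz
        exact isAlgebraic_mono hF₂ hsep.isIntegral.isAlgebraic) hxt₁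
    rwa [adj_pair_eq] at h0
  have htE : t ∈ E := subset_adj _ _ (Set.mem_insert _ _)
  have hsE : s ∈ E := le_adj _ _ (subset_adj _ _ (Set.mem_insert _ _))
  have hs'E : s' ∈ E := le_adj _ _ (subset_adj _ _ (Set.mem_insert_of_mem _ rfl))
  have ht'E : Transcendental E t' := by
    have := transcendental_affine (sub_mem hsE hs'E) htE hss' hxE
    rwa [show (s - s') * x + t = t' by rw [ht, ht']; ring] at this
  have hxmem : x ∈ adj E {t'} := by
    have : x = (t' - t) / (s - s') := by
      rw [eq_div_iff hss', ht, ht']; ring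
    rw [this]
    exact div_mem (sub_mem (subset_adj _ _ rfl) (le_adj _ _ htE)) (le_adj _ _ (sub_mem hsE hs'E))
  have hymem : y ∈ adj E {t'} := by
    rw [show y = t + s * x by rw [ht]; ring]
    exact add_mem (le_adj _ _ htE) (mul_mem (le_adj _ _ hsE) hxmem)
  have hKE : K ≤ adj E {t'} := adj_le_iff.2 ⟨((le_adj k _).trans (le_adj k₁ _)).trans (le_adj E _),
    Set.insert_subset_iff.2 ⟨hxmem, Set.singleton_subset_iff.2 hymem⟩⟩
  have hαE : σ' r ∈ adj E {t'} := by
    refine adj_le_iff.2 ⟨hFG.trans (adj_le_iff.2 ⟨hKE, ?_⟩), Set.singleton_subset_iff.2 (le_adj _ _ hs'E)⟩ hr'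
    exact Set.insert_subset_iff.2 ⟨le_adj _ _ hsE, Set.singleton_subset_iff.2
      (le_adj _ _ (subset_adj _ _ (Set.mem_insert_of_mem _ rfl)))⟩
  have h₁ : σ' r ∈ adj k₁ {t'} := (hk₁E.adj ht'E).2 _ hαE (isSeparable_mono (adj_le_iff.2
    ⟨(le_adj k _).trans (le_adj k₁ _), Set.insert_subset_iff.2
      ⟨le_adj _ _ (subset_adj _ _ (Set.mem_insert_of_mem _ rfl)), Set.singleton_subset_iff.2 (subset_adj _ _ rfl)⟩⟩) hsep')
  have h₂ : σ' r ∈ adj (adj K {s'}) {s} := by
    rw [adj_pair_eq]
    refine adj_le_iff.2 ⟨adj_le_iff.2 ⟨(le_adj k _).trans (le_adj K _), ?_⟩, Set.singleton_subset_iff.2 ?_⟩ h₁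
    · exact Set.insert_subset_iff.2 ⟨subset_adj _ _ (Set.mem_insert_of_mem _ rfl),
        Set.singleton_subset_iff.2 (subset_adj _ _ (Set.mem_insert _ _))⟩
    · exact sub_mem (le_adj _ _ hyK) (mul_mem (subset_adj _ _ (Set.mem_insert _ _)) (le_adj _ _ hxK))
  have h₃ : σ' r ∈ adj K {s'} := mem_of_mem_adj (adj_mono hKL subset_rfl) hsLs' (adj_mono hFL subset_rfl hr') h₂
  -- back to the original element
  have h₄ : α ∈ adj K {s} := by
    let RK : Subfield (RatFunc L) := adj ((K.comap L.subtype).map cR) {RatFunc.X}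
    have hRK : ∀ (τ : M) (hτ : Transcendental L τ), RK.map (evalTr hτ) = adj K {τ} := fun τ hτ => by
      rw [map_adj, Set.image_singleton, hX]
      congr 1
      ext z
      simp only [Subfield.mem_map, Subfield.mem_comap]
      constructor
      · rintro ⟨_, ⟨c, hc, rfl⟩, rfl⟩; rw [hC]; exact hc
      · exact fun hz => ⟨_, ⟨⟨z, hKL hz⟩, hz, rfl⟩, hC τ hτ _⟩
    rw [← hRK s' hs'L] at h₃
    obtain ⟨r₀, hr₀, he⟩ := Subfield.mem_map.1 h₃
    rw [← hr, ← hRK s hs]
    exact Subfield.mem_map.2 ⟨r₀, hr₀, congrArg σ (σ'.injective he)⟩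
  have hxF₂ : Transcendental F₂ x := transcendental_mono hF₂ hxt₁
  refine mem_of_isAlgebraic hxF₂ ?_ hsep.isIntegral.isAlgebraic
  refine adj_le_iff.2 ⟨adj_le_iff.2 ⟨(le_adj k _).trans (le_adj F₂ _), ?_⟩, ?_⟩ h₄
  · refine Set.insert_subset_iff.2 ⟨subset_adj _ _ rfl, Set.singleton_subset_iff.2 ?_⟩
    rw [show y = t + s * x by rw [ht]; ring]
    exact add_mem (le_adj _ _ (subset_adj _ _ (Set.mem_insert_of_mem _ rfl)))
      (mul_mem (le_adj _ _ (subset_adj _ _ (Set.mem_insert _ _))) (subset_adj _ _ rfl))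
  · exact Set.singleton_subset_iff.2 (le_adj _ _ (subset_adj _ _ (Set.mem_insert _ _)))

/-- Shifting by a multiple of a new variable keeps transcendence. -/
theorem transcendental_shift {x y c : M} (hkx : adj k {x} ≤ L) (hy : y ∈ L) (hcL : c ∈ L)
    (hyt : Transcendental (adj k {x}) y) (hv : Transcendental L v) :
    Transcendental (adj (adj k {v}) {x}) (y - v * c) := by
    have hswap : adj (adj k {v}) {x} = adj (adj k {x}) {v} := by
      rw [adj_pair_eq, adj_pair_eq, Set.pair_comm]
    intro halg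
    rw [hswap] at halg
    let A : Subfield M := (algebraicClosure (adj k {x}) M).toSubfield ⊓ L
    have h1 : y - v * c ∈ adj A {v} := mem_adj_of_isAlgebraic hkx hv
      (sub_mem (le_adj _ _ hy) (mul_mem (subset_adj _ _ rfl) (le_adj _ _ hcL))) halg
      fun z hz h' => ⟨mem_algebraicClosure_iff.2 h', hz⟩
    obtain ⟨p, q, hpq⟩ := mem_adj_simple.1 h1
    have hAL : A ≤ L := inf_le_right
    by_cases hq : q = 0
    · rw [hq, map_zero, div_zero, sub_eq_zero] at hpq
      have hye : y = v * c := hpq
      by_cases hca : c = 0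
      · exact hyt (by rw [hye, hca, mul_zero]; exact isAlgebraic_zero)
      · exact hv (by
          rw [show v = y / c by rw [hye, mul_div_assoc, div_self hca, mul_one]]
          exact isAlgebraic_of_mem (div_mem hy hcL))
    set y₀ : L := ⟨y, hy⟩
    set c₀ : L := ⟨c, hcL⟩
    have hne : aeval (v) q ≠ 0 := fun h0 => hq (transcendental_iff.1 (transcendental_mono hAL hv) _ h0)
    have hid : (C y₀ - X * C c₀) * q.map (Subfield.inclusion hAL) - p.map (Subfield.inclusion hAL) = 0 := by
      refine transcendental_iff.1 hv _ ?_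
      rw [map_sub, map_mul, map_sub, map_mul, aeval_C, aeval_C, aeval_X, aeval_inclusion, aeval_inclusion]
      show (y - v * c) * aeval (v) q - aeval (v) p = 0
      rw [hpq, div_mul_cancel₀ _ hne, sub_self]
    -- lowest coefficient
    let n := q.natTrailingDegree
    have hcoef := congrArg (fun e => ((Polynomial.coeff e n : L) : M)) hid
    have hXC : (X * C c₀ * q.map (Subfield.inclusion hAL)).coeff n = 0 := by
      rw [mul_assoc]
      rcases Nat.eq_zero_or_pos n with hn | hn
      · rw [hn, coeff_X_mul_zero]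
      · obtain ⟨m, hm⟩ : ∃ m, n = m + 1 := ⟨n - 1, by omega⟩
        rw [hm, coeff_X_mul, coeff_C_mul, coeff_map,
          coeff_eq_zero_of_lt_natTrailingDegree (by omega), map_zero, mul_zero]
    simp only [coeff_sub, sub_mul, hXC, coeff_C_mul, coeff_map, coeff_zero, sub_zero] at hcoef
    have hcoef' : y * ((q.coeff n : A) : M) - ((p.coeff n : A) : M) = 0 := hcoef
    have hqn : ((q.coeff n : A) : M) ≠ 0 := fun h0 =>
      trailingCoeff_nonzero_iff_nonzero.2 hq (Subtype.ext h0)
    have hyA : y ∈ A := by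
      rw [eq_div_of_mul_eq hqn (sub_eq_zero.1 hcoef')]
      exact div_mem (p.coeff n).2 (q.coeff n).2
    exact hyt (mem_algebraicClosure_iff.1 hyA.1)

/-- Several parameters. -/
theorem sepClosedIn_hyperplane {ι : Type*} [DecidableEq ι] (S : Finset ι) (v c : ι → M) {x y s s' : M}
    (hk : SepClosedIn k L) (hx : x ∈ L) (hy : y ∈ L) (hc : ∀ i ∈ S, c i ∈ L)
    (hxt : Transcendental k x) (hyt : Transcendental (adj k {x}) y)
    (hv : ∀ i ∈ S, Transcendental (adj L (v '' ((S : Set ι) \ {i}))) (v i))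
    (hs : Transcendental (adj L (v '' (S : Set ι))) s)
    (hs' : Transcendental (adj (adj L (v '' (S : Set ι))) {s}) s') :
    SepClosedIn (adj (adj k (v '' (S : Set ι))) {s, (y - ∑ i ∈ S, v i * c i) - s * x})
      (adj (adj L (v '' (S : Set ι))) {s}) := by
  induction S using Finset.induction generalizing k L y with
  | empty =>
    rw [Finset.coe_empty, Set.image_empty, adj_empty] at hs hs'
    simp only [Finset.coe_empty, Set.image_empty, adj_empty, Finset.sum_empty, sub_zero]
    exact sepClosedIn_pencil hk hx hy hxt hyt hs hs'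
  | @insert a S ha ih =>
    have hL : ∀ K : Subfield M, adj K (v '' ((insert a S : Finset ι) : Set ι)) = adj (adj K {v a}) (v '' (S : Set ι)) := by
      intro K
      rw [adj_adj, Finset.coe_insert, Set.image_insert_eq, Set.singleton_union]
    have ha' : ((insert a S : Finset ι) : Set ι) \ {a} = (S : Set ι) := by
      rw [Finset.coe_insert, Set.insert_sdiff_of_mem _ (Set.mem_singleton a), Set.sdiff_singleton_eq_self]
      exact ha
    have hva : Transcendental L (v a) := transcendental_mono (le_adj _ _) (hv a (Finset.mem_insert_self a S))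
    have hkx : adj k {x} ≤ L := adj_le_iff.2 ⟨hk.1, Set.singleton_subset_iff.2 hx⟩
    have hy' : Transcendental (adj (adj k {v a}) {x}) (y - v a * c a) :=
      transcendental_shift hkx hy (hc a (Finset.mem_insert_self a S)) hyt hva
    have hres := ih (k := adj k {v a}) (L := adj L {v a}) (y := y - v a * c a) (hk.adj hva) (le_adj _ _ hx)
      (sub_mem (le_adj _ _ hy) (mul_mem (subset_adj _ _ rfl) (le_adj _ _ (hc a (Finset.mem_insert_self a S)))))
      (fun i hi => le_adj _ _ (hc i (Finset.mem_insert_of_mem hi)))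
      (transcendental_adj_simple hk.1 hva hx hxt) hy'
      (fun i hi => by
        have h0 := hv i (Finset.mem_insert_of_mem hi)
        refine transcendental_mono (le_of_eq ?_) h0
        rw [adj_adj]
        congr 1
        have hia : a ≠ i := fun e => ha (e ▸ hi)
        rw [Finset.coe_insert, Set.insert_sdiff_of_notMem _ (by simpa using hia), Set.image_insert_eq, Set.singleton_union])
      (by rw [← hL]; exact hs) (by rw [← hL]; exact hs')
    rw [hL, hL, Finset.sum_insert ha, ← sub_sub]
    exact hres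

/-- Transcendence of the shifted coordinate. -/
theorem transcendental_shift_sum {ι : Type*} [DecidableEq ι] (S : Finset ι) (v c : ι → M) {x y : M}
    (hkx : adj k {x} ≤ L) (hy : y ∈ L) (hc : ∀ i ∈ S, c i ∈ L) (hyt : Transcendental (adj k {x}) y)
    (hv : ∀ i ∈ S, Transcendental (adj L (v '' ((S : Set ι) \ {i}))) (v i)) :
    Transcendental (adj (adj k (v '' (S : Set ι))) {x}) (y - ∑ i ∈ S, v i * c i) := by
  induction S using Finset.induction generalizing k L y with
  | empty =>
    refine (?_ : Transcendental (adj (adj k (v '' ((∅ : Finset ι) : Set ι))) {x}) (y - ∑ i ∈ (∅ : Finset ι), v i * c i))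
    rw [Finset.coe_empty, Set.image_empty, adj_empty, Finset.sum_empty, sub_zero]
    exact hyt
  | @insert a S ha ih =>
    have hva : Transcendental L (v a) := transcendental_mono (le_adj _ _) (hv a (Finset.mem_insert_self a S))
    have hcL := hc a (Finset.mem_insert_self a S)
    have h1 := ih (k := adj k {v a}) (L := adj L {v a}) (y := y - v a * c a)
      (adj_le_iff.2 ⟨adj_mono ((le_adj k {x}).trans hkx) subset_rfl,
        Set.singleton_subset_iff.2 (le_adj _ _ (hkx (subset_adj _ _ rfl)))⟩)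
      (sub_mem (le_adj _ _ hy) (mul_mem (subset_adj _ _ rfl) (le_adj _ _ hcL)))
      (fun i hi => le_adj _ _ (hc i (Finset.mem_insert_of_mem hi)))
      (transcendental_shift hkx hy hcL hyt hva)
      (fun i hi => by
        have h0 := hv i (Finset.mem_insert_of_mem hi)
        refine transcendental_mono (le_of_eq ?_) h0
        rw [adj_adj]
        congr 1
        have hia : a ≠ i := fun e => ha (e ▸ hi)
        rw [Finset.coe_insert, Set.insert_sdiff_of_notMem _ (by simpa using hia), Set.image_insert_eq, Set.singleton_union])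
    rw [adj_adj, Finset.coe_insert, Set.image_insert_eq, Finset.sum_insert ha, ← sub_sub]
    rw [adj_adj, adj_adj] at h1
    have e : ((insert (v a) (v '' (S : Set ι))) ∪ {x} : Set M) = {v a} ∪ (v '' (S : Set ι) ∪ {x}) := by
      rw [Set.insert_eq, Set.union_assoc]
    rw [e]
    exact h1

end Groth.L16.Hyper
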