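import Groth.Agent.L16.Hyperplane.Affine

/-!
Preimages of hyperplanes under morphisms whose image has dimension at least two.
-/

set_option autoImplicit false
set_option maxHeartbeats 800000
set_option backward.isDefEq.respectTransparency false
set_option backward.isDefEq.respectTransparency.types false

universe u

open CategoryTheory CategoryTheory.Limits AlgebraicGeometry TopologicalSpace IsLocalRing

namespace Groth.L16.Hyper

variable {k : Type u} [Field k]

theorem fromSpecStalk_comp {X : Scheme.{u}} [IsIntegral X] (p : X ⟶ Spec (CommRingCat.of k)) :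
    X.fromSpecStalk (genericPoint X) ≫ p = Spec.map (CommRingCat.ofHom (baseHom p)) := by
  obtain ⟨_, ⟨V, hV, rfl⟩, hηV, -⟩ :=
    X.isBasis_affineOpens.exists_subset_of_mem_open (Set.mem_univ (genericPoint X)) isOpen_univ
  rw [← hV.fromSpecStalk_eq_fromSpecStalk hηV, IsAffineOpen.fromSpecStalk, Category.assoc, fromSpec_comp,
    ← Spec.map_comp]
  congr 1
  ext1
  exact RingHom.ext fun x => germ_secHom p V hηV x

theorem baseHom_comp {X : Scheme.{u}} [IsIntegral X] {n : ℕ} (p : X ⟶ Spec (CommRingCat.of k))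
    (π : X ⟶ CohB1.ProjSpace n k) (hπ : π ≫ CohB1.ProjSpace.toSpec n k = p) (c : k) :
    π.stalkMap (genericPoint X) ((CohB1.ProjSpace n k).presheaf.germ ⊤ _ trivial
      (Coh.toGlobal (CohB1.ProjSpace.toSpec n k) c)) = baseHom p c := by
  subst hπ
  exact (Scheme.Hom.germ_stalkMap_apply π ⊤ (genericPoint X) (Opens.mem_top _) _)

theorem exists_pair_of_dim {X : Scheme.{u}} [IsIntegral X] {n : ℕ} (p : X ⟶ Spec (CommRingCat.of k))
    (π : X ⟶ CohB1.ProjSpace n k) (hπ : π ≫ CohB1.ProjSpace.toSpec n k = p)
    (ℓ : CohB1.polyGrading n k 1) (hη : π (genericPoint X) ∈ Proj.basicOpen (CohB1.polyGrading n k) ℓ.1)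
    (hdim : (2 : WithBot ℕ∞) ≤ topologicalKrullDim (closure ({π (genericPoint X)} : Set (CohB1.ProjSpace n k)))) :
    letI := (baseHom p).toAlgebra
    ∃ a b : Fin (n + 1), Transcendental k (pullFrac π (coordForm n k a) ℓ hη) ∧
      Transcendental (IntermediateField.adjoin k ({pullFrac π (coordForm n k a) ℓ hη} : Set X.functionField))
        (pullFrac π (coordForm n k b) ℓ hη) := by
  letI := (baseHom p).toAlgebra
  let P := CohB1.ProjSpace n k
  letI : P.Over (Spec (CommRingCat.of k)) := ⟨CohB1.ProjSpace.toSpec n k⟩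
  haveI : LocallyOfFiniteType (P ↘ Spec (CommRingCat.of k)) := by
    show LocallyOfFiniteType (CohB1.ProjSpace.toSpec n k)
    infer_instance
  let y : P := π (genericPoint X)
  obtain ⟨d, hd, htr⟩ := Groth.L22.SchemeDim.exists_dim_closure_eq_trdeg k P y
  have h2 : (2 : ℕ) ≤ d := by
    rw [show topologicalKrullDim (closure ({π (genericPoint X)} : Set (CohB1.ProjSpace n k))) = _ from hd] at hdim
    exact_mod_cast hdim
  refine exists_transcendental_pair (k := k) (L := X.functionField)
    (fun i => pullFrac π (coordForm n k i) ℓ hη) ?_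
  set F := IntermediateField.adjoin k (Set.range fun i => pullFrac π (coordForm n k i) ℓ hη)
  -- a chart through the image of the generic point
  obtain ⟨l, hl⟩ := Groth.L16.ProjSpace.exists_mem_basicOpen_X n k y
  let χ := Groth.L16.ProjSpace.chart n k l
  let e : Spec (CommRingCat.of X.functionField) ⟶ P := X.fromSpecStalk (genericPoint X) ≫ π
  have hpt : e (closedPoint X.functionField) = y := by
    show π (X.fromSpecStalk (genericPoint X) (closedPoint (X.presheaf.stalk (genericPoint X)))) = y
    rw [Scheme.fromSpecStalk_closedPoint]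
  have hrange : Set.range e ⊆ Set.range χ := by
    rintro _ ⟨t, rfl⟩
    rw [Subsingleton.elim t (closedPoint X.functionField), hpt]
    exact (Groth.L16.ProjSpace.opensRange_chart n k l).ge hl
  obtain ⟨ψ, hψ⟩ := Spec.map_surjective (IsOpenImmersion.lift χ e hrange)
  have hfac : Spec.map ψ ≫ χ = e := by rw [hψ, IsOpenImmersion.lift_fac]
  let idη : X.presheaf.stalk (genericPoint X) ⟶ CommRingCat.of X.functionField := CommRingCat.ofHom (RingHom.id _)
  haveI : IsLocalHom idη.hom := ⟨fun _ h => h⟩
  have hidη : X.fromSpecStalk (genericPoint X) = Spec.map idη ≫ X.fromSpecStalk (genericPoint X) := by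
    rw [show idη = 𝟙 (X.presheaf.stalk (genericPoint X)) from rfl, Spec.map_id]
    exact (Category.id_comp _).symm
  have hW : ⊤ ≤ χ ⁻¹ᵁ Groth.L16.ProjSpace.dOpen n k l := fun z _ =>
    (Groth.L16.ProjSpace.opensRange_chart n k l).le ⟨z, rfl⟩
  have hval : ∀ a : Γ(P, Groth.L16.ProjSpace.dOpen n k l),
      π.stalkMap (genericPoint X) (P.presheaf.germ _ y hl a) =
        ψ ((Scheme.ΓSpecIso _).hom (χ.appLE (Groth.L16.ProjSpace.dOpen n k l) ⊤ hW a)) := by
    intro a
    rw [Scheme.Hom.germ_stalkMap_apply]
    refine (germ_app_value (X.fromSpecStalk (genericPoint X)) (𝟙 X) idη (by rw [Category.comp_id]; exact hidη)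
      (π ⁻¹ᵁ Groth.L16.ProjSpace.dOpen n k l) (hpt ▸ hl :) hl (π.app (Groth.L16.ProjSpace.dOpen n k l) a)).symm.trans ?_
    refine (value_app (X.fromSpecStalk (genericPoint X)) π _ _ a).trans ?_
    refine (value_congr hfac.symm _ _ a).trans ?_
    refine (value_appLE (Spec.map ψ) χ (Groth.L16.ProjSpace.dOpen n k l) ⊤ hW (Opens.mem_top _) a).symm.trans ?_
    conv_lhs => rw [← Iso.hom_inv_id_apply (Scheme.ΓSpecIso _) (χ.appLE (Groth.L16.ProjSpace.dOpen n k l) ⊤ hW a)]
    exact value_Spec_map ψ _
  have hψC : ∀ c : k, ψ (MvPolynomial.C c) = baseHom p c := by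
    have h1 : Spec.map (CommRingCat.ofHom (MvPolynomial.C : k →+* MvPolynomial (Groth.L16.ProjSpace.ChartVar n l) k) ≫ ψ) =
        Spec.map (CommRingCat.ofHom (baseHom p)) := by
      rw [Spec.map_comp, ← Groth.L16.ProjSpace.chart_toSpec, ← Category.assoc, hfac, Category.assoc, hπ]
      exact fromSpecStalk_comp p
    exact fun c => ConcreteCategory.congr_hom (Spec.map_injective h1) c
  have hψX : ∀ j : Groth.L16.ProjSpace.ChartVar n l, ψ (MvPolynomial.X j) ∈ F := by
    intro j
    have hlη : π (genericPoint X) ∈ Proj.basicOpen (CohB1.polyGrading n k) (coordForm n k l).1 := hl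
    have h1 : pullFrac π (coordForm n k j.1) (coordForm n k l) hlη = ψ (MvPolynomial.X j) := by
      show π.stalkMap (genericPoint X) (P.presheaf.germ (Groth.L16.ProjSpace.dOpen n k l) y hl
        (frac (CohB1.polyGrading n k) (coordForm n k j.1) (coordForm n k l))) = _
      refine (hval _).trans ?_
      rw [show χ.appLE (Groth.L16.ProjSpace.dOpen n k l) ⊤ hW
        (frac (CohB1.polyGrading n k) (coordForm n k j.1) (coordForm n k l)) =
        (Scheme.ΓSpecIso (CommRingCat.of (MvPolynomial (Groth.L16.ProjSpace.ChartVar n l) k))).inv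
          (Groth.L16.ProjSpace.cratio n k l j.1) from Groth.L16.ProjSpace.chart_appLE_ratio n k l j.1 hW,
        Iso.inv_hom_id_apply, Groth.L16.ProjSpace.cratio, dif_neg j.2]
    rw [← h1]
    have hmul : ∀ (g f h : CohB1.polyGrading n k 1) (hf : π (genericPoint X) ∈ Proj.basicOpen (CohB1.polyGrading n k) f.1)
        (hh : π (genericPoint X) ∈ Proj.basicOpen (CohB1.polyGrading n k) h.1),
        pullFrac π g f hf * pullFrac π f h hh = pullFrac π g h hh := fun g f h hf hh => by
      unfold pullFrac
      rw [← map_mul]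
      exact congrArg _ (germ_frac_mul _ g f h _ hf hh)
    have hne : pullFrac π (coordForm n k l) ℓ hη ≠ 0 := by
      intro h0
      have h3 := hmul ℓ (coordForm n k l) ℓ hlη hη
      rw [h0, mul_zero] at h3
      have h4 : pullFrac π ℓ ℓ hη = 1 := by
        unfold pullFrac
        exact (congrArg _ (germ_frac_self _ ℓ _ hη)).trans (map_one _)
      exact one_ne_zero (h4 ▸ h3).symm
    rw [eq_div_of_mul_eq hne (hmul (coordForm n k j.1) (coordForm n k l) ℓ hlη hη)]
    exact div_mem (IntermediateField.subset_adjoin k _ ⟨j.1, rfl⟩) (IntermediateField.subset_adjoin k _ ⟨l, rfl⟩)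
  have hψmem : ∀ Q : MvPolynomial (Groth.L16.ProjSpace.ChartVar n l) k, ψ Q ∈ F := by
    intro Q
    induction Q using MvPolynomial.induction_on with
    | C c => rw [hψC]; exact F.algebraMap_mem c
    | add P Q hP hQ => rw [map_add]; exact add_mem hP hQ
    | mul_X P i hP => rw [map_mul]; exact mul_mem hP (hψX i)
  -- every element of the residue field of the image lies in the field generated by the coordinates
  have hmem : ∀ z : P.presheaf.stalk y, π.stalkMap (genericPoint X) z ∈ F := by
    have hD : IsAffineOpen (X := P) (Groth.L16.ProjSpace.dOpen n k l) :=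
      Groth.L16.ProjSpace.isAffineOpen_basicOpen_X n k l
    letI := TopCat.Presheaf.algebra_section_stalk P.presheaf (⟨y, hl⟩ : (Groth.L16.ProjSpace.dOpen n k l : P.Opens))
    haveI := hD.isLocalization_stalk ⟨y, hl⟩
    intro z
    obtain ⟨⟨a, b⟩, hab⟩ := IsLocalization.surj (hD.primeIdealOf ⟨y, hl⟩).asIdeal.primeCompl z
    have hb : IsUnit (P.presheaf.germ _ y hl b.1) := IsLocalization.map_units (P.presheaf.stalk y) b
    have hz : π.stalkMap (genericPoint X) z = π.stalkMap (genericPoint X) (P.presheaf.germ _ y hl a) /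
        π.stalkMap (genericPoint X) (P.presheaf.germ _ y hl b.1) := by
      rw [eq_div_iff (IsUnit.ne_zero (hb.map (π.stalkMap (genericPoint X)).hom)), ← map_mul]
      exact congrArg _ hab
    rw [hz]
    exact div_mem ((hval a).symm ▸ hψmem _) ((hval b.1).symm ▸ hψmem _)
  letI := Curv2.resAlgebra k P y
  let g₀ : P.presheaf.stalk y →+* F.toSubfield := (π.stalkMap (genericPoint X)).hom.codRestrict F.toSubfield hmem
  haveI : IsLocalHom g₀ := ⟨fun z hz =>
    (isUnit_map_iff (π.stalkMap (genericPoint X)).hom z).1 (hz.map F.toSubfield.subtype)⟩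
  let θ : P.residueField y →ₐ[k] F :=
    { IsLocalRing.ResidueField.lift g₀ with
      commutes' := fun c => Subtype.ext (baseHom_comp p π hπ c) }
  calc (2 : Cardinal) ≤ d := by exact_mod_cast h2
    _ = Algebra.trdeg k (P.residueField y) := htr.symm
    _ ≤ Algebra.trdeg k F := trdeg_le_of_injective θ θ.toRingHom.injective

end Groth.L16.Hyper
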