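import Groth.Agent.L16.Hyperplane.Family
import Groth.Agent.L16.Hyperplane.Fractions
import Groth.Agent.L16.ProjSpace.Charts

/-!
The preimage of a hyperplane under a morphism to projective space whose image has dimension at
least two is connected.
-/

set_option autoImplicit false
set_option maxHeartbeats 400000
set_option backward.isDefEq.respectTransparency false
set_option backward.isDefEq.respectTransparency.types false

universe u

open CategoryTheory CategoryTheory.Limits AlgebraicGeometry TopologicalSpace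

namespace Groth.L16.Hyper

variable {k : Type u} [Field k] {Γ' : Scheme.{u}} {n : ℕ}

local notation "𝔓" => CohB1.polyGrading n k

/-- A coordinate as an element of degree one. -/
noncomputable def coordForm (n : ℕ) (k : Type u) [Field k] (i : Fin (n + 1)) : CohB1.polyGrading n k 1 :=
  ⟨MvPolynomial.X i, MvPolynomial.isHomogeneous_X k i⟩

/-- `g / f` pulled back to the function field. -/
noncomputable def pullFrac [IsIntegral Γ'] (π : Γ' ⟶ CohB1.ProjSpace n k) (g f : CohB1.polyGrading n k 1)
    (h : π (genericPoint Γ') ∈ Proj.basicOpen (CohB1.polyGrading n k) f.1) : Γ'.functionField :=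
  π.stalkMap (genericPoint Γ') ((Proj (CohB1.polyGrading n k)).presheaf.germ _ (π (genericPoint Γ')) h
    (frac (CohB1.polyGrading n k) g f))

theorem isConnected_compl_preimage_basicOpen [IsIntegral Γ'] (p : Γ' ⟶ Spec (CommRingCat.of k)) [IsProper p]
    (hsep : letI := (baseHom p).toAlgebra
      ∀ e : Γ'.functionField, IsSeparable k e → e ∈ (algebraMap k Γ'.functionField).range)
    (π : Γ' ⟶ CohB1.ProjSpace n k) (ℓ : CohB1.polyGrading n k 1)
    (hη : π (genericPoint Γ') ∈ Proj.basicOpen (CohB1.polyGrading n k) ℓ.1) (a b : Fin (n + 1))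
    (ha : letI := (baseHom p).toAlgebra
      Transcendental k (pullFrac π (coordForm n k a) ℓ hη))
    (hb : letI := (baseHom p).toAlgebra
      Transcendental (IntermediateField.adjoin k ({pullFrac π (coordForm n k a) ℓ hη} : Set Γ'.functionField))
        (pullFrac π (coordForm n k b) ℓ hη)) :
    IsConnected ((π.base ⁻¹' (Proj.basicOpen (CohB1.polyGrading n k) ℓ.1).carrier)ᶜ) := by
  classical
  letI := (baseHom p).toAlgebra
  let T : Fin (n + 1) → 𝔓 1 := coordForm n k
  let D : 𝔓 1 → Γ'.Opens := fun f => π ⁻¹ᵁ Proj.basicOpen 𝔓 f.1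
  let s : ∀ g f : 𝔓 1, Γ(Γ', D f) := fun g f => π.app (Proj.basicOpen 𝔓 f.1) (frac 𝔓 g f)
  have hs : ∀ (g f : 𝔓 1) (h : genericPoint Γ' ∈ D f),
      Γ'.presheaf.germ (D f) (genericPoint Γ') h (s g f) = pullFrac π g f h := fun g f h =>
    (Scheme.Hom.germ_stalkMap_apply π (Proj.basicOpen 𝔓 f.1) (genericPoint Γ') h (frac 𝔓 g f)).symm
  have hmul : ∀ (g f h : 𝔓 1) (hf : π (genericPoint Γ') ∈ Proj.basicOpen 𝔓 f.1)
      (hh : π (genericPoint Γ') ∈ Proj.basicOpen 𝔓 h.1),
      pullFrac π g f hf * pullFrac π f h hh = pullFrac π g h hh := fun g f h hf hh => by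
    unfold pullFrac
    rw [← map_mul]
    exact congrArg _ (germ_frac_mul 𝔓 g f h _ hf hh)
  have hone : ∀ (f : 𝔓 1) (hf : π (genericPoint Γ') ∈ Proj.basicOpen 𝔓 f.1), pullFrac π f f hf = 1 := fun f hf => by
    unfold pullFrac
    exact (congrArg _ (germ_frac_self 𝔓 f _ hf)).trans (map_one _)
  let r : Fin (n + 1) → Γ'.functionField := fun i => pullFrac π (T i) ℓ hη
  have hra : r a ≠ 0 := fun h0 => ha (by rw [show pullFrac π (coordForm n k a) ℓ hη = 0 from h0]; exact isAlgebraic_zero)
  have hba : b ≠ a := fun e => hb (by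
    rw [e]; exact isAlgebraic_algebraMap (⟨_, IntermediateField.mem_adjoin_simple_self k _⟩ :
      IntermediateField.adjoin k ({pullFrac π (coordForm n k a) ℓ hη} : Set Γ'.functionField)))
  have hadj : IntermediateField.adjoin k ({(r a)⁻¹} : Set Γ'.functionField) =
      IntermediateField.adjoin k ({r a} : Set Γ'.functionField) := by
    refine le_antisymm (IntermediateField.adjoin_simple_le_iff.2 (inv_mem (IntermediateField.mem_adjoin_simple_self k _)))
      (IntermediateField.adjoin_simple_le_iff.2 ?_)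
    have := inv_mem (IntermediateField.mem_adjoin_simple_self k (r a)⁻¹)
    rwa [inv_inv] at this
  have hcov : ∀ γ : Γ', γ ∈ D ℓ ∨ ∃ l, γ ∈ D (T l) := fun γ =>
    Or.inr (Groth.L16.ProjSpace.exists_mem_basicOpen_X n k (π γ))
  refine isConnected_compl_of_coordinates p hsep (D ℓ) (fun l => D (T l)) hcov (fun l => s ℓ (T l))
    (fun l i => s (T i) (T l)) (fun i => s (T i) ℓ) (r a)⁻¹ (fun i => r i / r a) (j := a) (i₀ := b) hba
    (div_self hra) ?_ ?_ ?_ ?_ ?_ ?_
  · intro l hl i
    rw [hs, div_mul_eq_mul_div, mul_comm (r l)]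
    show r i / r a = pullFrac π (T i) (T l) hl * pullFrac π (T l) ℓ hη / r a
    rw [hmul]
  · intro l hl
    rw [hs, div_mul_eq_mul_div, mul_comm (r l)]
    show (r a)⁻¹ = pullFrac π ℓ (T l) hl * pullFrac π (T l) ℓ hη / r a
    rw [hmul, hone, one_div]
  · intro h i
    rw [hs]
    rfl
  · intro l γ hγ
    rw [show s ℓ (T l) = π.app (Proj.basicOpen 𝔓 (T l).1) (frac 𝔓 ℓ (T l)) from rfl,
      ← Scheme.preimage_basicOpen] at hγ
    exact mem_basicOpen_of_frac 𝔓 ℓ (T l) (π γ) ((Proj 𝔓).basicOpen_le _ hγ) hγ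
  · intro h
    refine ha ?_
    have := IsAlgebraic.inv h
    rwa [inv_inv] at this
  · rw [hadj]
    intro h
    refine hb ?_
    have hra' : IsAlgebraic (IntermediateField.adjoin k ({r a} : Set Γ'.functionField)) (r a) :=
      isAlgebraic_algebraMap (⟨_, IntermediateField.mem_adjoin_simple_self k _⟩ :
        IntermediateField.adjoin k ({r a} : Set Γ'.functionField))
    have := h.mul hra'
    rwa [div_mul_cancel₀ _ hra] at this

end Groth.L16.Hyper
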