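import Mathlib.FieldTheory.PurelyInseparable.PerfectClosure
import Mathlib.FieldTheory.RatFunc.AsPolynomial
import Mathlib.RingTheory.Polynomial.IsIntegral
import Mathlib.RingTheory.AlgebraicIndependent.AlgebraicClosure
import Mathlib.FieldTheory.AlgebraicClosure

/-!
Algebraic and separable elements over subfields of a field, and their behaviour under adjoining a
transcendental element.
-/

set_option autoImplicit false
set_option maxHeartbeats 400000

universe u

open Polynomial

namespace Groth.L16.Hyper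

variable {M : Type u} [Field M]

/-- The subfield generated over `K` by a set. -/
def adj (K : Subfield M) (S : Set M) : Subfield M := Subfield.closure (↑K ∪ S)

variable {K E : Subfield M} {S T : Set M} {a b v x : M}

theorem le_adj (K : Subfield M) (S : Set M) : K ≤ adj K S := fun _ hx =>
  Subfield.subset_closure (Or.inl hx)

theorem subset_adj (K : Subfield M) (S : Set M) : S ⊆ adj K S := fun _ hx =>
  Subfield.subset_closure (Or.inr hx)

theorem adj_le_iff {L : Subfield M} : adj K S ≤ L ↔ K ≤ L ∧ S ⊆ L := by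
  rw [adj, Subfield.closure_le, Set.union_subset_iff]; rfl

theorem adj_mono (h : K ≤ E) (h' : S ⊆ T) : adj K S ≤ adj E T :=
  adj_le_iff.2 ⟨h.trans (le_adj E T), h'.trans (subset_adj E T)⟩

theorem adj_adj : adj (adj K S) T = adj K (S ∪ T) := by
  refine le_antisymm (adj_le_iff.2 ⟨adj_mono le_rfl Set.subset_union_left,
    (Set.subset_union_right).trans (subset_adj _ _)⟩) (adj_le_iff.2 ⟨(le_adj _ _).trans (le_adj _ _), ?_⟩)
  rintro z (hz | hz)
  · exact le_adj _ _ (subset_adj _ _ hz)
  · exact subset_adj _ _ hz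

theorem adj_empty : adj K ∅ = K := le_antisymm (adj_le_iff.2 ⟨le_rfl, Set.empty_subset _⟩) (le_adj _ _)

theorem adjoin_toSubfield (K : Subfield M) (S : Set M) :
    (IntermediateField.adjoin K S).toSubfield = adj K S := by
  refine le_antisymm ?_ (adj_le_iff.2 ⟨fun z hz => (IntermediateField.adjoin K S).algebraMap_mem ⟨z, hz⟩,
    IntermediateField.subset_adjoin K S⟩)
  intro z hz
  have hz' : z ∈ IntermediateField.adjoin K S := hz
  clear hz
  induction hz' using IntermediateField.adjoin_induction with
  | mem y hy => exact subset_adj _ _ hy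
  | algebraMap y => exact le_adj _ _ y.2
  | add _ _ _ _ h₁ h₂ => exact add_mem h₁ h₂
  | inv _ _ h => exact inv_mem h
  | mul _ _ _ _ h₁ h₂ => exact mul_mem h₁ h₂

theorem mem_adj_iff : x ∈ adj K S ↔ x ∈ IntermediateField.adjoin K S := by
  rw [← adjoin_toSubfield]; rfl

theorem mem_adj_simple : x ∈ adj K {v} ↔ ∃ p q : K[X], x = aeval v p / aeval v q := by
  rw [mem_adj_iff, IntermediateField.mem_adjoin_simple_iff]

theorem transcendental_mono (h : K ≤ E) (hx : Transcendental E x) : Transcendental K x := by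
  letI : Algebra K E := (Subfield.inclusion h).toAlgebra
  haveI : IsScalarTower K E M := IsScalarTower.of_algebraMap_eq fun _ => rfl
  exact hx.restrictScalars (algebraMap K E).injective

theorem isAlgebraic_mono (h : K ≤ E) (hx : IsAlgebraic K x) : IsAlgebraic E x := by
  letI : Algebra K E := (Subfield.inclusion h).toAlgebra
  haveI : IsScalarTower K E M := IsScalarTower.of_algebraMap_eq fun _ => rfl
  exact hx.tower_top E

theorem isSeparable_mono (h : K ≤ E) (hx : IsSeparable K x) : IsSeparable E x := by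
  letI : Algebra K E := (Subfield.inclusion h).toAlgebra
  haveI : IsScalarTower K E M := IsScalarTower.of_algebraMap_eq fun _ => rfl
  exact hx.tower_top E

theorem isAlgebraic_of_mem (hx : x ∈ K) : IsAlgebraic K x :=
  isAlgebraic_algebraMap (A := M) (⟨x, hx⟩ : K)

theorem isAlgebraic_of_isAlgebraic_adj (hS : ∀ y ∈ S, IsAlgebraic K y) (hx : IsAlgebraic (adj K S) x) :
    IsAlgebraic K x := by
  haveI : Algebra.IsAlgebraic K (IntermediateField.adjoin K S) :=
    IntermediateField.isAlgebraic_adjoin fun y hy => (hS y hy).isIntegral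
  letI : Algebra (adj K S) (IntermediateField.adjoin K S) :=
    (RingHom.codRestrict (adj K S).subtype (IntermediateField.adjoin K S).toSubfield
      fun z => mem_adj_iff.1 z.2).toAlgebra
  haveI : IsScalarTower (adj K S) (IntermediateField.adjoin K S) M := IsScalarTower.of_algebraMap_eq fun _ => rfl
  exact IsAlgebraic.restrictScalars K (hx.tower_top (IntermediateField.adjoin K S))

theorem transcendental_adj_of_isAlgebraic (hS : ∀ y ∈ S, IsAlgebraic K y) (hx : Transcendental K x) :
    Transcendental (adj K S) x := fun h => hx (isAlgebraic_of_isAlgebraic_adj hS h)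

section General

attribute [local instance] Polynomial.algebra

/-- An element of a simple transcendental extension of `E` which is algebraic over the corresponding
extension of `K` is a fraction of polynomials with coefficients integral over `K`. -/
theorem exists_integral_fraction {K' E' : Type u} [Field K'] [Field E'] [Algebra K' E'] (r : RatFunc E')
    (h : IsAlgebraic K'[X] r) :
    ∃ p q : E'[X], q ≠ 0 ∧ (∀ i, IsIntegral K' (p.coeff i)) ∧ (∀ i, IsIntegral K' (q.coeff i)) ∧
      r = algebraMap E'[X] (RatFunc E') p / algebraMap E'[X] (RatFunc E') q := by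
  obtain ⟨y, hy, hyr⟩ := h.exists_integral_multiple
  obtain ⟨p, hp⟩ := IsIntegrallyClosed.isIntegral_iff.1 (hyr.tower_top (A := E'[X]))
  have hp' : IsIntegral K'[X] p :=
    (isIntegral_algHom_iff (IsScalarTower.toAlgHom K'[X] E'[X] (RatFunc E'))
      (IsFractionRing.injective E'[X] (RatFunc E'))).1 (by rw [IsScalarTower.coe_toAlgHom', hp]; exact hyr)
  have hq : algebraMap K'[X] E'[X] y ≠ 0 := fun h0 => hy
    (Polynomial.map_injective (algebraMap K' E') (algebraMap K' E').injective (h0.trans (Polynomial.map_zero _).symm))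
  refine ⟨p, algebraMap K'[X] E'[X] y, hq, hp'.coeff, (isIntegral_algebraMap).coeff, ?_⟩
  rw [hp, Algebra.smul_def, ← IsScalarTower.algebraMap_apply, mul_div_cancel_left₀]
  rw [IsScalarTower.algebraMap_apply K'[X] E'[X] (RatFunc E'), map_ne_zero_iff _ (IsFractionRing.injective E'[X] (RatFunc E'))]
  exact hq

variable {K' E' : Type u} [Field K'] [Field E'] [Algebra E' M]

/-- Evaluation of a rational function at a transcendental element. -/
noncomputable def evalTr (hv : Transcendental E' v) : RatFunc E' →+* M :=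
  IsFractionRing.lift (A := E'[X]) (g := (aeval v : E'[X] →ₐ[E'] M).toRingHom)
    (transcendental_iff_injective.1 hv)

theorem evalTr_algebraMap (hv : Transcendental E' v) (p : E'[X]) :
    evalTr hv (algebraMap E'[X] (RatFunc E') p) = aeval v p :=
  IsFractionRing.lift_algebraMap (A := E'[X]) _ p

theorem evalTr_div (hv : Transcendental E' v) (p q : E'[X]) :
    evalTr hv (algebraMap E'[X] (RatFunc E') p / algebraMap E'[X] (RatFunc E') q) = aeval v p / aeval v q := by
  rw [map_div₀, evalTr_algebraMap, evalTr_algebraMap]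

theorem exists_integral_fraction_eval [Algebra K' E'] [Algebra K' M] [IsScalarTower K' E' M]
    (hv : Transcendental E' v) (p₀ q₀ : E'[X])
    (h : IsAlgebraic (IntermediateField.adjoin K' ({v} : Set M)) (aeval v p₀ / aeval v q₀ : M)) :
    ∃ p q : E'[X], q ≠ 0 ∧ (∀ i, IsIntegral K' (p.coeff i)) ∧ (∀ i, IsIntegral K' (q.coeff i)) ∧
      aeval v p₀ / aeval v q₀ = aeval v p / aeval v q := by
  let F : IntermediateField K' M := IntermediateField.adjoin K' ({v} : Set M)
  set r := algebraMap E'[X] (RatFunc E') p₀ / algebraMap E'[X] (RatFunc E') q₀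
  letI : Algebra K'[X] M := ((evalTr hv).comp (algebraMap K'[X] (RatFunc E'))).toAlgebra
  have hKv : ∀ p : K'[X], algebraMap K'[X] M p = aeval v p := fun p => by
    show evalTr hv (algebraMap K'[X] (RatFunc E') p) = _
    rw [IsScalarTower.algebraMap_apply K'[X] E'[X] (RatFunc E'), evalTr_algebraMap]
    exact aeval_map_algebraMap E' v p
  let ev : RatFunc E' →ₐ[K'[X]] M := { evalTr hv with commutes' := fun _ => rfl }
  letI : Algebra K'[X] F := ((algebraMap K'[X] M).codRestrict F.toSubalgebra.toSubring fun p => by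
    rw [hKv]
    exact F.toSubalgebra.mem_toSubring.2 ((IntermediateField.algebra_adjoin_le_adjoin K' ({v} : Set M))
      (aeval_mem_adjoin_singleton K' v))).toAlgebra
  haveI : IsScalarTower K'[X] F M := IsScalarTower.of_algebraMap_eq fun _ => rfl
  haveI : Algebra.IsAlgebraic K'[X] F := ⟨fun z => by
    refine (isAlgebraic_algHom_iff (IsScalarTower.toAlgHom K'[X] F M) Subtype.val_injective).1 ?_
    obtain ⟨p, q, hz⟩ := (IntermediateField.mem_adjoin_simple_iff K' (z : M)).1 z.2
    show IsAlgebraic K'[X] (z : M)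
    rw [hz, ← hKv, ← hKv, div_eq_mul_inv]
    exact (isAlgebraic_algebraMap p).mul (isAlgebraic_algebraMap q).inv⟩
  have halg : IsAlgebraic K'[X] r := by
    refine (isAlgebraic_algHom_iff ev (evalTr hv).injective).1 ?_
    show IsAlgebraic K'[X] (evalTr hv r)
    rw [evalTr_div]
    exact IsAlgebraic.restrictScalars (S := F) K'[X] h
  obtain ⟨p, q, hq, hpc, hqc, he⟩ := exists_integral_fraction r halg
  exact ⟨p, q, hq, hpc, hqc, by rw [← evalTr_div hv, ← evalTr_div hv]; exact congrArg _ he⟩

theorem exists_of_isAlgebraic (hv : Transcendental E' v) (p q : E'[X])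
    (h : IsAlgebraic E' (aeval v p / aeval v q : M)) : ∃ e : E', aeval v p / aeval v q = algebraMap E' M e := by
  set r := algebraMap E'[X] (RatFunc E') p / algebraMap E'[X] (RatFunc E') q
  obtain ⟨f, hf, hfr⟩ := h
  have hr : IsAlgebraic E' r := ⟨f, hf, (evalTr hv).injective (by
    rw [map_zero, Polynomial.aeval_def, Polynomial.hom_eval₂]
    have hc : (evalTr hv).comp (algebraMap E' (RatFunc E')) = algebraMap E' M := RingHom.ext fun e => by
      rw [RingHom.comp_apply, IsScalarTower.algebraMap_apply E' E'[X] (RatFunc E'), evalTr_algebraMap, Polynomial.algebraMap_eq, aeval_C]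
    rw [hc, evalTr_div]
    exact hfr)⟩
  obtain ⟨P, hP⟩ := IsIntegrallyClosed.isIntegral_iff.1 (hr.isIntegral.tower_top (A := E'[X]))
  have hev : aeval v P = aeval v p / aeval v q := by rw [← evalTr_algebraMap hv, hP, evalTr_div]
  by_cases hd : P.natDegree = 0
  · exact ⟨P.coeff 0, by rw [← hev, eq_C_of_natDegree_eq_zero hd, aeval_C, coeff_C_zero]⟩
  · have h' : IsAlgebraic E' (aeval v P) := by rw [hev]; exact ⟨f, hf, hfr⟩
    exact absurd (IsAlgebraic.of_aeval P hd (mem_nonZeroDivisors_of_ne_zero (leadingCoeff_ne_zero.2 fun h0 => hd (by rw [h0, natDegree_zero]))) h') hv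

theorem exists_pow_mem_range [Algebra K' M] (E₀ : IntermediateField K' M)
    (h : ∀ x ∈ E₀, IsSeparable K' x → x ∈ (algebraMap K' M).range) (q : ℕ) [ExpChar K' q] {a : M}
    (ha : a ∈ E₀) (halg : IsAlgebraic K' a) : ∃ n : ℕ, a ^ q ^ n ∈ (algebraMap K' M).range := by
  obtain ⟨g, hg, n, hn⟩ := Irreducible.hasSeparableContraction q (minpoly.irreducible halg.isIntegral)
  refine ⟨n, h _ (pow_mem ha _) ?_⟩
  refine Polynomial.Separable.of_dvd hg (minpoly.dvd K' _ ?_)
  rw [← expand_aeval, hn, minpoly.aeval]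

end General

theorem aeval_inclusion (h : K ≤ E) (p : K[X]) :
    aeval v (p.map (Subfield.inclusion h)) = aeval v p := by
  rw [aeval_def, aeval_def, eval₂_map]; rfl

theorem aeval_mem_adj (p : E[X]) {F : Subfield M} (hp : ∀ i, (p.coeff i : M) ∈ F) :
    aeval v p ∈ adj F {v} := by
  have hv' : v ∈ adj F {v} := subset_adj F {v} (Set.mem_singleton v)
  have e : aeval v p = ∑ i ∈ Finset.range (p.natDegree + 1), (p.coeff i : M) * v ^ i :=
    (Polynomial.aeval_eq_sum_range (R := E) v).trans (Finset.sum_congr rfl fun i _ => Algebra.smul_def _ _)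
  rw [e]
  exact Subfield.sum_mem (adj F {v}) fun i _ => Subfield.mul_mem _ (le_adj F {v} (hp i)) (pow_mem hv' i)

/-- If `v` is transcendental over `E`, elements of `E(v)` algebraic over `K(v)` lie in `A(v)` for
every field `A` containing the elements of `E` algebraic over `K`. -/
theorem mem_adj_of_isAlgebraic (hKE : K ≤ E) (hv : Transcendental E v) (hb : b ∈ adj E {v})
    (h : IsAlgebraic (adj K {v}) b) {A : Subfield M} (hA : ∀ a ∈ E, IsAlgebraic K a → a ∈ A) :
    b ∈ adj A {v} := by
  letI : Algebra K E := (Subfield.inclusion hKE).toAlgebra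
  haveI : IsScalarTower K E M := IsScalarTower.of_algebraMap_eq fun _ => rfl
  obtain ⟨p₀, q₀, rfl⟩ := mem_adj_simple.1 hb
  have h' : IsAlgebraic (IntermediateField.adjoin K ({v} : Set M)) (aeval v p₀ / aeval v q₀ : M) := by
    have h'' := h
    rw [← adjoin_toSubfield] at h''
    exact h''
  obtain ⟨p, q, hq, hpc, hqc, he⟩ := exists_integral_fraction_eval hv p₀ q₀ h'
  rw [he]
  have hmem : ∀ e : E, IsIntegral K e → (e : M) ∈ A := fun e he =>
    hA _ e.2 (he.isAlgebraic.algHom (IsScalarTower.toAlgHom K E M))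
  exact div_mem (aeval_mem_adj p fun i => hmem _ (hpc i)) (aeval_mem_adj q fun i => hmem _ (hqc i))

/-- A simple transcendental extension meets `E` in the base. -/
theorem mem_of_mem_adj (hKE : K ≤ E) (hv : Transcendental E v) (hx : x ∈ E) (h : x ∈ adj K {v}) :
    x ∈ K := by
  obtain ⟨p, q, rfl⟩ := mem_adj_simple.1 h
  by_cases hq : q = 0
  · rw [hq, map_zero, div_zero]; exact zero_mem _
  set e : E := ⟨_, hx⟩
  have hzero : (C e : E[X]) * q.map (Subfield.inclusion hKE) - p.map (Subfield.inclusion hKE) = 0 := by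
    refine transcendental_iff.1 hv _ ?_
    rw [map_sub, map_mul, aeval_C, aeval_inclusion, aeval_inclusion]
    show aeval v p / aeval v q * aeval v q - aeval v p = 0
    rw [div_mul_cancel₀, sub_self]
    exact fun h0 => hq (transcendental_iff.1 (transcendental_mono hKE hv) _ h0)
  have hc := congrArg (fun P => ((Polynomial.coeff P q.natDegree : E) : M)) hzero
  simp only [coeff_sub, coeff_C_mul, coeff_map, coeff_zero] at hc
  have hc' : (e : M) * (q.leadingCoeff : M) - (p.coeff q.natDegree : M) = 0 := hc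
  have hlc : ((q.leadingCoeff : K) : M) ≠ 0 := fun h0 => leadingCoeff_ne_zero.2 hq (Subtype.ext h0)
  show (e : M) ∈ K
  rw [eq_div_of_mul_eq hlc (sub_eq_zero.1 hc')]
  exact div_mem (p.coeff _).2 (q.leadingCoeff).2

theorem mem_of_isAlgebraic (hv : Transcendental E v) (hx : x ∈ adj E {v}) (h : IsAlgebraic E x) :
    x ∈ E := by
  obtain ⟨p, q, rfl⟩ := mem_adj_simple.1 hx
  obtain ⟨e, he⟩ := exists_of_isAlgebraic hv p q h
  rw [he]
  exact e.2

theorem transcendental_adj_simple (hKE : K ≤ E) (hv : Transcendental E v) (hx : x ∈ E)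
    (hxK : Transcendental K x) : Transcendental (adj K {v}) x := fun h => by
  refine hxK ?_
  have hA : ∀ a ∈ E, IsAlgebraic K a → a ∈ ((algebraicClosure K M).toSubfield ⊓ E : Subfield M) :=
    fun a ha h' => ⟨mem_algebraicClosure_iff.2 h', ha⟩
  have h1 := mem_adj_of_isAlgebraic hKE hv (le_adj _ _ hx) h hA
  exact mem_algebraicClosure_iff.1 (mem_of_mem_adj inf_le_right hv hx h1).1

/-- Exchange. -/
theorem transcendental_exchange (hx : Transcendental K x) (hy : Transcendental (adj K {x}) b) :
    Transcendental (adj K {b}) x :=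
  transcendental_adj_simple (le_adj _ _) hy (subset_adj _ _ rfl) hx

theorem transcendental_affine {c d : M} (hc : c ∈ K) (hd : d ∈ K) (hc0 : c ≠ 0)
    (hv : Transcendental K v) : Transcendental K (c * v + d) := fun h => by
  refine hv ?_
  have e : v = (c * v + d - d) * c⁻¹ := by rw [add_sub_cancel_right, mul_comm c v, mul_assoc, mul_inv_cancel₀ hc0, mul_one]
  rw [e]
  exact (h.sub (isAlgebraic_of_mem hd)).mul (isAlgebraic_of_mem (inv_mem hc))

/-- Separable closedness of `K` in `E`. -/
def SepClosedIn (K E : Subfield M) : Prop := K ≤ E ∧ ∀ x ∈ E, IsSeparable K x → x ∈ K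

theorem SepClosedIn.mono {E' : Subfield M} (h : SepClosedIn K E) (hle : K ≤ E') (h' : E' ≤ E) :
    SepClosedIn K E' := ⟨hle, fun x hx => h.2 x (h' hx)⟩

theorem exists_pow_mem (h : SepClosedIn K E) (q : ℕ) [ExpChar K q] (ha : a ∈ E) (halg : IsAlgebraic K a) :
    ∃ n : ℕ, a ^ q ^ n ∈ K := by
  obtain ⟨n, k, hk⟩ := exists_pow_mem_range (E.toIntermediateField fun k : K => h.1 k.2)
    (fun x hx hs => ⟨⟨x, h.2 x hx hs⟩, rfl⟩) q ha halg
  exact ⟨n, by rw [← hk]; exact k.2⟩

theorem SepClosedIn.adj (h : SepClosedIn K E) (hv : Transcendental E v) :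
    SepClosedIn (adj K {v}) (adj E {v}) := by
  refine ⟨adj_mono h.1 subset_rfl, fun b hb hs => ?_⟩
  let A : Subfield M := (algebraicClosure K M).toSubfield ⊓ E
  have hbA : b ∈ Hyper.adj A {v} :=
    mem_adj_of_isAlgebraic h.1 hv hb hs.isIntegral.isAlgebraic fun a ha h' => ⟨mem_algebraicClosure_iff.2 h', ha⟩
  let F := Hyper.adj K {v}
  let q := ringExpChar F
  haveI : ExpChar K q := (RingHom.expChar_iff (f := Subfield.inclusion (le_adj K {v})) (Subfield.inclusion (le_adj K {v})).injective q).2 inferInstance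
  haveI : IsPurelyInseparable F (IntermediateField.adjoin F (A : Set M)) :=
    (IntermediateField.isPurelyInseparable_adjoin_iff_pow_mem F M q).2 fun a ha => by
      obtain ⟨n, hn⟩ := exists_pow_mem h q ha.2 (mem_algebraicClosure_iff.1 ha.1)
      exact ⟨n, ⟨a ^ q ^ n, le_adj _ _ hn⟩, rfl⟩
  have hb' : b ∈ IntermediateField.adjoin F (A : Set M) := by
    refine mem_adj_iff.1 (?_ : b ∈ Hyper.adj F (A : Set M))
    refine adj_le_iff.2 ⟨(subset_adj F (A : Set M)), ?_⟩ hbA
    exact (Set.singleton_subset_iff.2 (le_adj _ _ (subset_adj K {v} rfl)))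
  obtain ⟨k, hk⟩ := IsPurelyInseparable.inseparable F (⟨b, hb'⟩ : IntermediateField.adjoin F (A : Set M)) (by
    unfold IsSeparable at hs ⊢
    rw [← minpoly.algHom_eq (IntermediateField.adjoin F (A : Set M)).val Subtype.val_injective]
    exact hs)
  rw [show b = (k : M) from (congrArg Subtype.val hk).symm]
  exact k.2

end Groth.L16.Hyper
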